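import Cfsg.Agent.H95.J4Five.Elem
import Cfsg.Agent.H69.J4.Isolation

/-!
The centralizer of the element of order five in `H`.
-/

set_option autoImplicit false
set_option linter.unusedSectionVars false

namespace H95.J4Five

open Subgroup Cfsg.Agent.H69.J4 H88.J4Fusion
open scoped Pointwise

variable {G : Type*} [Group G] [Finite G]
variable {z : G} {E P N : Subgroup G} {d : Data z E P} (R : Real d)
  {e : ↥(centralizer ({z} : Set G)) →* MulAut ↥Cfsg.Spor.M22}

theorem q5_not_mem_N (o : Outer z E P N e) : (q5 R : G) ∉ N := fun h => by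
  have h1 := N.orderOf_dvd_natCard h
  rw [orderOf_q5, o.cardN, d.cardE] at h1
  norm_num at h1

theorem orderOf_e_q5 (o : Outer z E P N e) : orderOf (e (q5 R)) = 5 := by
  haveI : Fact (Nat.Prime 5) := ⟨by norm_num⟩
  refine orderOf_eq_prime ?_ fun h => q5_not_mem_N R o ((o.e_one_iff d).1 h)
  rw [← map_pow, show q5 R ^ 5 = 1 from Subtype.ext (q5_pow R), map_one]

/-- The centralizer of the element of order five, inside `H`. -/
def centH : Subgroup ↥(centralizer ({z} : Set G)) :=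
  centralizer ({q5 R} : Set ↥(centralizer ({z} : Set G)))

theorem mem_centH {h : ↥(centralizer ({z} : Set G))} :
    h ∈ centH R ↔ (q5 R : G) * h = h * q5 R := by
  rw [centH, mem_centralizer_singleton_iff]
  exact ⟨fun e => (congrArg Subtype.val e).symm, fun e => Subtype.ext e.symm⟩

theorem card_centH_ker (o : Outer z E P N e) :
    Nat.card ↥((e.comp (centH R).subtype).ker) = 96 := by
  classical
  have hEP : E ⊓ P = ⊥ := inf_eq_bot_of_coprime (by rw [d.cardE, d.cardP]; norm_num)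
  let f : fixE R × P → ↥((e.comp (centH R).subtype).ker) := fun v =>
    ⟨⟨⟨(v.1 : G) * v.2, mul_mem (d.L.le_H v.1.2.1) (d.hPH v.2.2)⟩, (mem_centH R).2 (by
      have h1 := (mem_cent_iff R).1 v.1.2.2
      have h2 := (q5_comm_P R v.2.2).symm
      exact ((show Commute (q5 R : G) (v.1 : G) from h1).mul_right h2).eq)⟩,
      MonoidHom.mem_ker.2 ((o.e_one_iff d).2 ((o.mem_N_iff d).2 ⟨_, v.1.2.1, _, v.2.2, rfl⟩))⟩
  have hf : Function.Bijective f := by
    refine ⟨fun u v huv => ?_, fun k => ?_⟩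
    · have h : (u.1 : G) * u.2 = v.1 * v.2 := congrArg (fun k => ((k.1.1 :
        ↥(centralizer ({z} : Set G))) : G)) huv
      have hm : (v.1 : G)⁻¹ * u.1 ∈ E ⊓ P := by
        refine ⟨E.mul_mem (E.inv_mem v.1.2.1) u.1.2.1, ?_⟩
        rw [show (v.1 : G)⁻¹ * u.1 = (v.1 : G)⁻¹ * (u.1 * u.2) * (u.2 : G)⁻¹ by group, h,
          inv_mul_cancel_left]
        exact P.mul_mem v.2.2 (P.inv_mem u.2.2)
      rw [hEP, mem_bot, inv_mul_eq_one] at hm
      exact Prod.ext (Subtype.ext hm.symm) (Subtype.ext (mul_left_cancel (hm ▸ h)))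
    · obtain ⟨x, hx, p, hp, hxp⟩ := (o.mem_N_iff d).1 ((o.e_one_iff d).1 (MonoidHom.mem_ker.1 k.2))
      have hc := (mem_centH R).1 k.1.2
      have hxc : (q5 R : G) * x = x * q5 R := by
        have h2 := q5_comm_P R hp
        change (q5 R : G) * ((k.1.1 : ↥(centralizer ({z} : Set G))) : G) =
          ((k.1.1 : ↥(centralizer ({z} : Set G))) : G) * q5 R at hc
        change ((k.1.1 : ↥(centralizer ({z} : Set G))) : G) = x * p at hxp
        rw [hxp] at hc
        exact mul_right_cancel (b := p) (by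
          rw [mul_assoc, hc, mul_assoc, h2, ← mul_assoc])
      exact ⟨(⟨x, (mem_fixE R).2 ⟨hx, (comm_iff R hx).1 hxc⟩⟩, ⟨p, hp⟩),
        Subtype.ext (Subtype.ext (Subtype.ext hxp.symm))⟩
  rw [← Nat.card_congr (Equiv.ofBijective f hf), Nat.card_prod, card_fixE, d.cardP]

theorem centH_range (o : Outer z E P N e) :
    (e.comp (centH R).subtype).range =
      centralizer ({e (q5 R)} : Set (MulAut ↥Cfsg.Spor.M22)) := by
  classical
  haveI : Fact (Nat.Prime 5) := ⟨by norm_num⟩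
  refine le_antisymm ?_ ?_
  · rintro _ ⟨c, rfl⟩
    refine mem_centralizer_singleton_iff.2 ?_
    show e c.1 * e (q5 R) = e (q5 R) * e c.1
    rw [← map_mul, ← map_mul]
    exact congrArg e (Subtype.ext ((mem_centH R).1 c.2).symm)
  intro α hα
  set σ := e (q5 R) with hσ
  have hασ : α * σ = σ * α := mem_centralizer_singleton_iff.1 hα
  have hσ5 := orderOf_e_q5 R o
  obtain ⟨h, rfl⟩ := o.surj α
  set W : Subgroup ↥(centralizer ({z} : Set G)) := (zpowers σ).comap e with hW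
  have hWc : Nat.card W = 5 * (3 * 2 ^ 13) := by
    have h1 := W.card_mul_index
    rw [hW, index_comap_of_surjective _ o.surj] at h1
    have h2 := (zpowers σ).card_mul_index
    rw [Nat.card_zpowers, hσ5] at h2
    have h3 := e.ker.card_mul_index
    rw [index_ker, MonoidHom.range_eq_top.2 o.surj, card_top] at h3
    have h4 : Nat.card e.ker = 3 * 2 ^ 13 := by
      rw [o.ker, Nat.card_congr (subgroupOfEquivOfLe o.hNH).toEquiv, o.cardN, d.cardE]
    have hi : 0 < (zpowers σ).index := Nat.pos_of_ne_zero index_ne_zero_of_finite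
    rw [← hW] at h1
    refine Nat.eq_of_mul_eq_mul_right hi ?_
    rw [h1, ← h3, h4, ← h2]
    ring
  have hqW : q5 R ∈ W := mem_zpowers σ
  have hqc : Nat.card ↥((zpowers (q5 R)).subgroupOf W) = 5 := by
    rw [Nat.card_congr (subgroupOfEquivOfLe (zpowers_le.2 hqW)).toEquiv, Nat.card_zpowers,
      ← orderOf_q5 R, ← Subgroup.orderOf_coe]
  let S0 : Sylow 5 W := (IsPGroup.of_card (n := 1) (by rw [hqc]; norm_num)).toSylow (by
    have h1 := ((zpowers (q5 R)).subgroupOf W).card_mul_index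
    rw [hqc, hWc] at h1
    rw [show ((zpowers (q5 R)).subgroupOf W).index = 3 * 2 ^ 13 by omega]
    norm_num)
  have hcW : h * q5 R * h⁻¹ ∈ W := by
    show e (h * q5 R * h⁻¹) ∈ zpowers σ
    rw [map_mul, map_mul, map_inv, hασ, mul_inv_cancel_right]
    exact mem_zpowers σ
  set c : W := ⟨h * q5 R * h⁻¹, hcW⟩
  have hc5 : c ^ 5 = 1 := Subtype.ext (by
    show (h * q5 R * h⁻¹) ^ 5 = 1
    rw [← MulAut.conj_apply, ← map_pow, show q5 R ^ 5 = 1 from Subtype.ext (q5_pow R), map_one])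
  have hcp : IsPGroup 5 (zpowers c) := fun x => by
    refine ⟨1, Subtype.ext ?_⟩
    obtain ⟨k, hk⟩ := mem_zpowers_iff.1 x.2
    show (x : W) ^ 5 ^ 1 = 1
    rw [pow_one, ← hk, ← zpow_natCast, ← zpow_mul, mul_comm, zpow_mul, zpow_natCast, hc5, one_zpow]
  obtain ⟨S1, hS1⟩ := hcp.exists_le_sylow
  obtain ⟨n, hn⟩ := MulAction.exists_smul_eq W S1 S0
  have hmem : (n : ↥(centralizer ({z} : Set G))) * (h * q5 R * h⁻¹) *
      (n : ↥(centralizer ({z} : Set G)))⁻¹ ∈ zpowers (q5 R) := by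
    have : MulAut.conj n c ∈ ((n • S1 : Sylow 5 W) : Subgroup W) :=
      Subgroup.smul_mem_pointwise_smul c (MulAut.conj n) _ (hS1 (mem_zpowers c))
    rw [hn] at this
    exact mem_subgroupOf.1 this
  obtain ⟨i, hi⟩ := mem_zpowers_iff.1 hmem
  obtain ⟨j, hj⟩ := mem_zpowers_iff.1 (show e (n : ↥(centralizer ({z} : Set G))) ∈ zpowers σ from n.2)
  have hq : (n : ↥(centralizer ({z} : Set G))) * (h * q5 R * h⁻¹) *
      (n : ↥(centralizer ({z} : Set G)))⁻¹ = q5 R := by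
    have he : σ ^ i = σ := by
      have h1 := congrArg e hi
      rw [map_zpow, map_mul, map_mul, map_mul, map_mul, map_inv, map_inv, ← hσ, hασ,
        mul_inv_cancel_right, ← hj, (Commute.zpow_self σ j).eq, mul_inv_cancel_right] at h1
      exact h1
    rw [← hi]
    have h5 : (5 : ℤ) ∣ i - 1 := by
      have h1 : σ ^ (i - 1) = 1 := by rw [zpow_sub_one, he, mul_inv_cancel]
      have := orderOf_dvd_iff_zpow_eq_one.2 h1
      rwa [hσ5] at this
    obtain ⟨k, hk⟩ := h5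
    rw [show i = 1 + 5 * k by omega, zpow_add, zpow_one, zpow_mul, zpow_ofNat,
      show q5 R ^ 5 = 1 from Subtype.ext (q5_pow R), one_zpow, mul_one]
  set nH : ↥(centralizer ({z} : Set G)) := ↑n with hnH
  have hc' : q5 R ^ (-j) * (nH * h) ∈ centH R := by
    refine mul_mem (zpow_mem ((mem_centH R).2 rfl) _) (mem_centralizer_singleton_iff.2 ?_)
    calc nH * h * q5 R = nH * (h * q5 R * h⁻¹) * nH⁻¹ * (nH * h) := by group
      _ = _ := by rw [hq]
  refine ⟨⟨_, hc'⟩, ?_⟩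
  show e (q5 R ^ (-j) * (nH * h)) = e h
  rw [map_mul, map_zpow, map_mul, ← hσ, ← hj, zpow_neg, inv_mul_cancel_left]

/-- The elements of the centralizer inducing inner automorphisms. -/
def innerH : Subgroup ↥(centralizer ({z} : Set G)) :=
  centH R ⊓ (Cfsg.Inn ↥Cfsg.Spor.M22).comap e

theorem card_centH (o : Outer z E P N e)
    (h10 : ∀ s : MulAut ↥Cfsg.Spor.M22, orderOf s = 5 →
      Nat.card ↥(centralizer ({s} : Set (MulAut ↥Cfsg.Spor.M22))) = 10) :
    Nat.card (centH R) = 960 := by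
  have h := (e.comp (centH R).subtype).ker.card_mul_index
  rw [index_ker, card_centH_ker R o, centH_range R o, h10 _ (orderOf_e_q5 R o)] at h
  omega

theorem card_innerH (o : Outer z E P N e)
    (h5 : ∀ s : MulAut ↥Cfsg.Spor.M22, orderOf s = 5 →
      Nat.card ↥(centralizer ({s} : Set (MulAut ↥Cfsg.Spor.M22)) ⊓ Cfsg.Inn ↥Cfsg.Spor.M22) = 5) :
    Nat.card (innerH (e := e) R) = 480 := by
  set f := e.comp (centH R).subtype with hf
  have hker := card_centH_ker R o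
  let g : ↥(innerH (e := e) R) →* MulAut ↥Cfsg.Spor.M22 := e.comp (innerH (e := e) R).subtype
  have hr : g.range = centralizer ({e (q5 R)} : Set (MulAut ↥Cfsg.Spor.M22)) ⊓
      Cfsg.Inn ↥Cfsg.Spor.M22 := by
    refine le_antisymm ?_ fun α hα => ?_
    · rintro _ ⟨c, rfl⟩
      exact ⟨centH_range R o ▸ ⟨⟨c.1, c.2.1⟩, rfl⟩, c.2.2⟩
    · obtain ⟨c, hc⟩ := (centH_range R o).ge hα.1
      have hc' : e c.1 = α := hc
      exact ⟨⟨c.1, c.2, show e c.1 ∈ Cfsg.Inn ↥Cfsg.Spor.M22 from hc' ▸ hα.2⟩, hc⟩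
  have hk : Nat.card g.ker = 96 := by
    rw [← hker]
    refine Nat.card_congr ⟨fun c => ⟨⟨c.1.1, c.1.2.1⟩, c.2⟩,
      fun c => ⟨⟨c.1.1, c.1.2, ?_⟩, c.2⟩, fun _ => rfl, fun _ => rfl⟩
    show e c.1.1 ∈ Cfsg.Inn ↥Cfsg.Spor.M22
    rw [show e c.1.1 = 1 from c.2]
    exact one_mem _
  have h := g.ker.card_mul_index
  rw [index_ker, hk, hr, h5 _ (orderOf_e_q5 R o)] at h
  omega

/-- Involutions of the inner part lie in `E`. -/
theorem innerH_sq (o : Outer z E P N e)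
    (h5 : ∀ s : MulAut ↥Cfsg.Spor.M22, orderOf s = 5 →
      Nat.card ↥(centralizer ({s} : Set (MulAut ↥Cfsg.Spor.M22)) ⊓ Cfsg.Inn ↥Cfsg.Spor.M22) = 5)
    {x : ↥(centralizer ({z} : Set G))} (hx : x ∈ innerH (e := e) R) (h2 : (x : G) * x = 1) :
    (x : G) ∈ E := by
  refine Data.mem_E_of_two d o ((o.e_one_iff d).1 ?_) (k := 1) (by rw [pow_one, pow_two, h2])
  have hmem : e x ∈ centralizer ({e (q5 R)} : Set (MulAut ↥Cfsg.Spor.M22)) ⊓
      Cfsg.Inn ↥Cfsg.Spor.M22 := ⟨(centH_range R o).le ⟨⟨x, hx.1⟩, rfl⟩, hx.2⟩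
  have hd := Subgroup.orderOf_dvd_natCard _ hmem
  rw [h5 _ (orderOf_e_q5 R o)] at hd
  have h2' : e x ^ 2 = 1 := by
    rw [← map_pow, show x ^ 2 = 1 from Subtype.ext (by
      rw [pow_two]; exact h2), map_one]
  exact orderOf_eq_one_iff.1 (Nat.eq_one_of_dvd_coprimes (by norm_num) hd
    (orderOf_dvd_of_pow_eq_one h2'))

include R in
/-- Conjugation by `H` preserves `Y`. -/
theorem conj_mem_Y (o : Outer z E P N e) (h : ↥(centralizer ({z} : Set G)))
    {c : ↥(centralizer ({z} : Set G))} (hc : d.ρ c ∈ Outer.Y d) :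
    d.ρ (h * c * h⁻¹) ∈ Outer.Y d := by
  by_cases hh : d.ρ h ∈ Outer.Y d
  · rw [map_mul, map_mul, map_inv]
    exact mul_mem (mul_mem hh hc) (inv_mem hh)
  · have h1 : d.ρ (h * c) ∉ Outer.Y d := fun hm => hh (by
      simpa using mul_mem hm (inv_mem hc))
    exact R.mul_mem_Y o h1 fun hm => hh (by simpa using inv_mem hm)

/-- An elementary subgroup of order two to the eleven through `z` is conjugate to `V0` in `H`. -/
theorem exists_conj_V (o : Outer z E P N e) {V : Subgroup G} (hV : Cfsg.IsElementaryAbelian 2 V)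
    (hcard : Nat.card V = 2 ^ 11) (hzV : z ∈ V) :
    ∃ k : ↥(centralizer ({z} : Set G)), ∀ x, x ∈ V ↔ (k : G) * x * (k : G)⁻¹ ∈ R.V0 := by
  haveI : Fact (Nat.Prime 2) := ⟨Nat.prime_two⟩
  have hVH : V ≤ centralizer ({z} : Set G) := fun x hx =>
    mem_centralizer_singleton_iff.2 (congrArg Subtype.val (hV.1.1.1 ⟨x, hx⟩ ⟨z, hzV⟩))
  have hp : IsPGroup 2 (V.subgroupOf (centralizer ({z} : Set G))) :=
    IsPGroup.of_card (n := 11) (by rw [Nat.card_congr (subgroupOfEquivOfLe hVH).toEquiv, hcard])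
  obtain ⟨S, Q, hQS, hQ⟩ := exists_sylow R o
  obtain ⟨S1, hS1⟩ := hp.exists_le_sylow
  obtain ⟨c, hc⟩ := MulAction.exists_smul_eq ↥(centralizer ({z} : Set G)) S1 S
  refine ⟨c, ?_⟩
  have hkV : V.map (MulAut.conj (c : G)).toMonoidHom = R.V0 := by
    refine R.unique o hQ ?_ (elementary_map _ hV) ?_
    · rintro _ ⟨a, ha, rfl⟩
      show (c : G) * a * (c : G)⁻¹ ∈ (Q : Subgroup G)
      rw [hQS]
      refine ⟨c * ⟨a, hVH ha⟩ * c⁻¹, ?_, rfl⟩
      have := Subgroup.smul_mem_pointwise_smul _ (MulAut.conj c) _ (hS1 (mem_subgroupOf.2 ha) :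
        (⟨a, hVH ha⟩ : ↥(centralizer ({z} : Set G))) ∈ (S1 : Subgroup ↥(centralizer ({z} : Set G))))
      rw [← hc]
      exact this
    · rw [← hcard]
      exact Nat.card_congr (V.equivMapOfInjective _ (MulAut.conj (c : G)).injective).toEquiv.symm
  intro a
  rw [← hkV]
  refine ⟨fun ha => ⟨a, ha, rfl⟩, ?_⟩
  rintro ⟨b, hb, hab⟩
  rwa [← (MulAut.conj (c : G)).injective (hab : MulAut.conj (c : G) b = MulAut.conj (c : G) a)]

/-- Elements of such a subgroup fixed by the element of order five lie in `E`. -/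
theorem mem_E_of_V (o : Outer z E P N e)
    (h5 : ∀ s : MulAut ↥Cfsg.Spor.M22, orderOf s = 5 →
      Nat.card ↥(centralizer ({s} : Set (MulAut ↥Cfsg.Spor.M22)) ⊓ Cfsg.Inn ↥Cfsg.Spor.M22) = 5)
    {V : Subgroup G} (hV : Cfsg.IsElementaryAbelian 2 V) (hcard : Nat.card V = 2 ^ 11)
    (hzV : z ∈ V) {x : G} (hx : x ∈ V) (hxq : (q5 R : G) * x = x * q5 R) : x ∈ E := by
  obtain ⟨k, hk⟩ := exists_conj_V R o hV hcard hzV
  obtain ⟨hkH, hkA, -⟩ := (hk x).1 hx
  have hxH : x ∈ centralizer ({z} : Set G) :=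
    mem_centralizer_singleton_iff.2 (congrArg Subtype.val (hV.1.1.1 ⟨x, hx⟩ ⟨z, hzV⟩))
  obtain ⟨w, hw⟩ : ∃ w, R.code (d.ρ (⟨_, hkH⟩ : ↥(centralizer ({z} : Set G)))) = evalM w := by
    obtain ⟨i, hi, hix⟩ := List.getElem_of_mem
      (show R.code (d.ρ (⟨_, hkH⟩ : ↥(centralizer ({z} : Set G)))) ∈ mQ from R.A0_le_Q hkA)
    obtain ⟨w, hw⟩ := R.exists_of_mem_mQ i (q_len ▸ hi)
    rw [List.getD_eq_getElem (hn := hi), hix, R.mat_word] at hw
    exact ⟨w, hw.symm⟩
  have hY : d.ρ (⟨_, hkH⟩ : ↥(centralizer ({z} : Set G))) ∈ Outer.Y d := by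
    rw [R.mat_inj (hw.trans (R.mat_word w).symm)]
    exact H82.J4Cx.genY_le R (H82.J4Cx.word_gen R w)
  have hxY := conj_mem_Y R o k⁻¹ hY
  rw [show k⁻¹ * (⟨_, hkH⟩ : ↥(centralizer ({z} : Set G))) * k⁻¹⁻¹ = ⟨x, hxH⟩ from
    Subtype.ext (show (k : G)⁻¹ * ((k : G) * x * (k : G)⁻¹) * (k : G)⁻¹⁻¹ = x by group)] at hxY
  obtain ⟨c, hc, hcx⟩ := hxY
  have hxi : e ⟨x, hxH⟩ ∈ Cfsg.Inn ↥Cfsg.Spor.M22 := by
    have he : e (c⁻¹ * ⟨x, hxH⟩) = 1 := (o.e_one_iff d).2 (o.hEN ((d.mem_ker_iff).1 (by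
      rw [map_mul, map_inv, hcx, inv_mul_cancel])))
    rw [map_mul, map_inv, inv_mul_eq_one] at he
    rw [← he, ← o.map_cP d]
    exact mem_map_of_mem _ hc
  exact innerH_sq R o h5 (x := ⟨x, hxH⟩) ⟨(mem_centH R).2 hxq, hxi⟩
    (by show x * x = 1; rw [← pow_two]; exact hV.2 x hx)

end H95.J4Five
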