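import Cfsg.Agent.H95.J4Five.Inner
import Cfsg.Agent.H95.J4T.Orbits
import Cfsg.Agent.H95.J4T.Labels
import Cfsg.Agent.H95.J4T.Assemble
import Cfsg.Agent.H19.J4V.Mathieu
import Cfsg.Agent.H11.J4Seven.HSide
import Cfsg.Agent.H74.J4Five.Five

/-!
# An element of order five on an elementary subgroup of order two to the eleven
-/

set_option autoImplicit false
set_option linter.unusedSectionVars false

namespace H95.J4Five

open Subgroup Cfsg.Agent.H69.J4 H88.J4Fusion

variable {G : Type*} [Group G] [Finite G]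
variable {z : G} {E P N : Subgroup G} {d : Data z E P} (R : Real d)
  {e : ↥(centralizer ({z} : Set G)) →* MulAut ↥Cfsg.Spor.M22}

theorem exists_frame [IsSimpleGroup G] (hG : ¬ IsMulCommutative G)
    (hJ : Cfsg.IsOfJankoFourTypeWith z P) {V : Subgroup G} (hV : Cfsg.IsElementaryAbelian 2 V)
    (hVc : Nat.card V = 2 ^ 11) :
    ∃ F : H95.J4T.Frame z V Cfsg.GolayPt, F.act.range = Cfsg.M24 := by
  obtain ⟨hcent, hN, L, φ, hφ, hbij, hT⟩ := H19.J4V.exists_labels hG hJ V hV hVc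
  obtain ⟨F, -, hr⟩ := H95.J4T.frame_of_labels hV hVc (z := z)
    (fun h => by simpa [h] using hJ.1) hcent L φ hφ hbij hT
  exact ⟨F, hr hN⟩

theorem card_zO [IsSimpleGroup G] (hG : ¬ IsMulCommutative G)
    (hJ : Cfsg.IsOfJankoFourTypeWith z P) : Nat.card (zO R) = 1771 := by
  obtain ⟨F, -⟩ := exists_frame hG hJ R.V0_elementary R.card_V0
  rw [Nat.card_coe_set_eq, ← F.card_conj]
  congr 1
  ext v
  exact ⟨fun h => ⟨h.1, (H19.J4V.conj_iff_zO h.1).2 h⟩, fun h => (H19.J4V.conj_iff_zO h.1).1 h.2⟩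

/-- The five-part of the order of `H` is five. -/
theorem conj_five (hJ : Cfsg.IsOfJankoFourTypeWith z P) {q : G}
    (hq : q ∈ centralizer ({z} : Set G)) (h5 : orderOf q = 5) :
    ∃ k ∈ centralizer ({z} : Set G),
      zpowers (k * q * k⁻¹) = zpowers (q5 R : G) := by
  haveI : Fact (Nat.Prime 5) := ⟨by norm_num⟩
  have hfac : (Nat.card ↥(centralizer ({z} : Set G))).factorization 5 = 1 := by
    rw [H11.J4Seven.card_H hJ, show 3 * 2 ^ 13 * 887040 = 5 ^ 1 * (3 * 2 ^ 13 * 177408) by norm_num,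
      Nat.factorization_mul (by norm_num) (by norm_num),
      Nat.Prime.factorization_pow (by norm_num)]
    rw [Finsupp.add_apply, Nat.factorization_eq_zero_of_not_dvd
      (show ¬ 5 ∣ 3 * 2 ^ 13 * 177408 by norm_num), Finsupp.single_eq_same]
  set a : ↥(centralizer ({z} : Set G)) := ⟨q, hq⟩
  have ha : orderOf a = 5 := by rw [← h5]; exact (Subgroup.orderOf_coe a).symm
  have hb : orderOf (q5 R) = 5 := by rw [← orderOf_q5 R]; exact (Subgroup.orderOf_coe _).symm
  let Pa : Sylow 5 ↥(centralizer ({z} : Set G)) :=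
    Sylow.ofCard (zpowers a) (by rw [Nat.card_zpowers, ha, hfac, pow_one])
  let Pb : Sylow 5 ↥(centralizer ({z} : Set G)) :=
    Sylow.ofCard (zpowers (q5 R)) (by rw [Nat.card_zpowers, hb, hfac, pow_one])
  obtain ⟨k, hk⟩ := MulAction.exists_smul_eq ↥(centralizer ({z} : Set G)) Pa Pb
  have hm : k * a * k⁻¹ ∈ zpowers (q5 R) := by
    have h1 : k * a * k⁻¹ ∈ ((k • Pa : Sylow 5 _) : Subgroup _) := by
      rw [Sylow.coe_subgroup_smul]
      exact ⟨a, mem_zpowers a, by simp⟩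
    rw [hk] at h1
    exact h1
  refine ⟨k, k.2, Subgroup.eq_of_le_of_card_ge (zpowers_le.2 ?_) ?_⟩
  · obtain ⟨i, hi⟩ := mem_zpowers_iff.1 hm
    exact mem_zpowers_iff.2 ⟨i, by simpa using congrArg Subtype.val hi⟩
  · rw [card_zpowers_q5 R, Nat.card_zpowers, ← MulAut.conj_apply, MulEquiv.orderOf_eq, h5]

theorem commute_gen {q q' x : G} (h : zpowers q' = zpowers q) (hc : q * x = x * q) :
    q' * x = x * q' := by
  obtain ⟨i, rfl⟩ := mem_zpowers_iff.1 (h ▸ mem_zpowers q' : q' ∈ zpowers q)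
  exact ((show Commute q x from hc).zpow_left i).eq

theorem conj_commute (g : G) {x y : G} (h : x * y = y * x) :
    g * x * g⁻¹ * (g * y * g⁻¹) = g * y * g⁻¹ * (g * x * g⁻¹) :=
  ((show Commute x y from h).map (MulAut.conj g).toMonoidHom).eq

include R in
/-- With a conjugate of `z` among them, the fixed points are at most thirty-two. -/
theorem card_fix_le (hJ : Cfsg.IsOfJankoFourTypeWith z P) (o : Outer z E P N e) {V : Subgroup G}
    (hV : Cfsg.IsElementaryAbelian 2 V) (hVc : Nat.card V = 2 ^ 11) {q c : G}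
    (hq : orderOf q = 5) (hc : c ∈ V) (hqc : q * c = c * q) (hcz : IsConj z c) :
    {x : G | x ∈ V ∧ q * x = x * q}.ncard ≤ 32 := by
  obtain ⟨g, rfl⟩ := isConj_iff.1 hcz
  have hqH : g⁻¹ * q * g ∈ centralizer ({z} : Set G) := mem_centralizer_singleton_iff.2 (by
    calc g⁻¹ * q * g * z = g⁻¹ * (q * (g * z * g⁻¹)) * g := by group
      _ = _ := by rw [hqc]; group)
  have hq5 : orderOf (g⁻¹ * q * g) = 5 := by
    rw [show g⁻¹ * q * g = MulAut.conj g⁻¹ q by simp, MulEquiv.orderOf_eq, hq]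
  obtain ⟨k, hk, hz⟩ := conj_five R hJ hqH hq5
  set t := k * g⁻¹ with ht
  have hzV : z ∈ V.map (MulAut.conj t).toMonoidHom := by
    refine ⟨_, hc, ?_⟩
    show t * (g * z * g⁻¹) * t⁻¹ = z
    have hkz : k * z = z * k := mem_centralizer_singleton_iff.1 hk
    calc t * (g * z * g⁻¹) * t⁻¹ = k * z * k⁻¹ := by rw [ht]; group
      _ = z := by rw [hkz, mul_inv_cancel_right]
  refine le_of_le_of_eq ?_ ((Nat.card_coe_set_eq (fixE R : Set G)).symm.trans (card_fixE R))
  rw [← Set.ncard_image_of_injective _ (MulAut.conj t).injective]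
  refine Set.ncard_le_ncard ?_ (Set.toFinite _)
  rintro _ ⟨x, ⟨hxV, hxq⟩, rfl⟩
  have hcomm : (q5 R : G) * MulAut.conj t x = MulAut.conj t x * q5 R := by
    refine commute_gen hz.symm ?_
    have := conj_commute t hxq
    rwa [show t * q * t⁻¹ = k * (g⁻¹ * q * g) * k⁻¹ by rw [ht]; group] at this
  refine ⟨mem_E_of_V R o H74.J4Five.card_cent_five_inn (H95.J4T.map_elementary t hV)
    (by rw [H95.J4T.card_map, hVc]) hzV ⟨x, hxV, rfl⟩ hcomm, (mem_cent_iff R).2 hcomm⟩

include R in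
/-- The fixed points number eight and contain one conjugate of `z`. -/
theorem fixed_data (hJ : Cfsg.IsOfJankoFourTypeWith z P) (o : Outer z E P N e) {V : Subgroup G}
    (F : H95.J4T.Frame z V Cfsg.GolayPt) {q : G} (hqN : q ∈ normalizer (V : Set G))
    (hq : orderOf q = 5) :
    {x : G | x ∈ V ∧ q * x = x * q}.ncard = 8 ∧
      ∃ c ∈ V, q * c = c * q ∧ IsConj z c ∧
        ∀ c' ∈ V, q * c' = c' * q → IsConj z c' → c' = c := by
  classical
  haveI : Fact (Nat.Prime 5) := ⟨by norm_num⟩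
  haveI : Fact (Nat.Prime 2) := ⟨Nat.prime_two⟩
  have hq5 : q ^ 5 = 1 := hq ▸ pow_orderOf_eq_one q
  set σ := F.act ⟨q, hqN⟩ with hσ
  have hσ5 : σ ^ 5 ^ 1 = 1 := by
    rw [pow_one, hσ, ← map_pow, show (⟨q, hqN⟩ : ↥(normalizer (V : Set G))) ^ 5 = 1 from
      Subtype.ext hq5, map_one]
  have hel : ∀ a b, σ a = a → σ b = b → q * F.el a b = F.el a b * q := fun a b ha hb => by
    have h := F.act_el ⟨q, hqN⟩ a b
    rw [← hσ, ha, hb] at h
    exact mul_inv_eq_iff_eq_mul.1 h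
  -- four fixed points
  have h4 : 4 ≤ σ.supportᶜ.card := by
    have h := Equiv.Perm.card_compl_support_modEq hσ5
    rw [← Nat.card_eq_fintype_card, F.card_pts, Nat.ModEq] at h
    omega
  obtain ⟨s, hs, hs4⟩ := Finset.exists_subset_card_eq h4
  obtain ⟨a, b, c, d, hab, hac, had, hbc, hbd, hcd, rfl⟩ := Finset.card_eq_four.1 hs4
  have hfix : ∀ p ∈ ({a, b, c, d} : Finset Cfsg.GolayPt), σ p = p := fun p hp => by
    have := hs hp
    rwa [Finset.mem_compl, Equiv.Perm.mem_support, not_not] at this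
  have fa := hfix a (by simp)
  have fb := hfix b (by simp)
  have fc := hfix c (by simp)
  have fd := hfix d (by simp)
  set S : Set G := {x : G | x ∈ V ∧ q * x = x * q} with hSdef
  let C : Subgroup G := V ⊓ centralizer ({q} : Set G)
  have hC : S.ncard = Nat.card C := by
    rw [← Nat.card_coe_set_eq]
    exact Nat.card_congr (Equiv.subtypeEquivRight fun x => by
      show x ∈ V ∧ q * x = x * q ↔ x ∈ V ⊓ centralizer ({q} : Set G)
      rw [mem_inf, mem_centralizer_singleton_iff]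
      exact and_congr_right fun _ => eq_comm)
  set c0 := F.el a b * F.el c d with hc0
  have hc0V : c0 ∈ V := mul_mem (F.mem a b) (F.mem c d)
  have hc0q : q * c0 = c0 * q :=
    ((show Commute q _ from hel a b fa fb).mul_right (hel c d fc fd)).eq
  have hc0z : IsConj z c0 := F.isConj a b c d hab hac had hbc hbd hcd
  -- exactly eight
  have h8 : S.ncard = 8 := by
    have hle : S.ncard ≤ 32 := card_fix_le R hJ o F.elem F.card_V hq hc0V hc0q hc0z
    obtain ⟨k, hk, hkC⟩ := (Nat.dvd_prime_pow Nat.prime_two).1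
      (F.card_V ▸ Subgroup.card_dvd_of_le (inf_le_left : C ≤ V))
    have hmod := H11.J4Seven.fixed_modEq (p := 5) hq5 (V : Set G)
      fun v hv => (mem_normalizer_iff.1 hqN v).1 hv
    have hVn : (V : Set G).ncard = 2 ^ 11 := by
      rw [← Nat.card_coe_set_eq]; exact F.card_V
    change S.ncard ≡ _ [MOD 5] at hmod
    rw [hVn, hC, hkC, Nat.ModEq] at hmod
    rw [hC, hkC] at hle
    rw [hC, hkC]
    have hk5 : k ≤ 5 := (Nat.pow_le_pow_iff_right (le_refl 2)).1 hle
    interval_cases k <;> first | rfl | (norm_num at hmod)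
  refine ⟨h8, c0, hc0V, hc0q, hc0z, fun c' hc'V hc'q hc'z => ?_⟩
  by_contra hne
  let six : List G := [F.el a b, F.el a c, F.el a d, F.el b c, F.el b d, F.el c d]
  have h6 : ∀ x ∈ six, x ∈ S ∧ x ≠ 1 ∧ ¬ IsConj z x := by
    intro x hx
    simp only [six, List.mem_cons, List.not_mem_nil, or_false] at hx
    rcases hx with rfl | rfl | rfl | rfl | rfl | rfl
    exacts [⟨⟨F.mem _ _, hel _ _ fa fb⟩, F.ne_one _ _ hab, F.not_isConj _ _ hab⟩,
      ⟨⟨F.mem _ _, hel _ _ fa fc⟩, F.ne_one _ _ hac, F.not_isConj _ _ hac⟩,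
      ⟨⟨F.mem _ _, hel _ _ fa fd⟩, F.ne_one _ _ had, F.not_isConj _ _ had⟩,
      ⟨⟨F.mem _ _, hel _ _ fb fc⟩, F.ne_one _ _ hbc, F.not_isConj _ _ hbc⟩,
      ⟨⟨F.mem _ _, hel _ _ fb fd⟩, F.ne_one _ _ hbd, F.not_isConj _ _ hbd⟩,
      ⟨⟨F.mem _ _, hel _ _ fc fd⟩, F.ne_one _ _ hcd, F.not_isConj _ _ hcd⟩]
  have hinj : ∀ {p q r s : Cfsg.GolayPt}, p ≠ q → ¬((r = p ∧ s = q) ∨ (r = q ∧ s = p)) →
      F.el p q ≠ F.el r s := fun h hn he => hn (F.el_inj h he)
  have hnd : six.Nodup := by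
    simp only [six, List.nodup_cons, List.mem_cons, List.not_mem_nil, or_false, List.nodup_nil,
      and_true, not_or, not_false_iff]
    refine ⟨⟨?_, ?_, ?_, ?_, ?_⟩, ⟨?_, ?_, ?_, ?_⟩, ⟨?_, ?_, ?_⟩, ⟨?_, ?_⟩, ?_⟩ <;>
      apply hinj <;> first
      | assumption
      | simp [hab, hac, had, hbc, hbd, hcd, hab.symm, hac.symm, had.symm, hbc.symm, hbd.symm,
        hcd.symm]
  have hbig : ({1, c0, c'} ∪ {x | x ∈ six} : Set G).ncard ≤ 8 := by
    rw [← h8]
    refine Set.ncard_le_ncard ?_ (Set.toFinite _)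
    rintro x ((rfl | rfl | rfl) | hx)
    exacts [⟨one_mem V, by simp⟩, ⟨hc0V, hc0q⟩, ⟨hc'V, hc'q⟩, (h6 x hx).1]
  have h3 : ({1, c0, c'} : Set G).ncard = 3 := by
    refine Set.ncard_eq_three.2 ⟨1, c0, c', (F.isConj_ne_one hc0z).symm, (F.isConj_ne_one hc'z).symm,
      fun h => hne h.symm, rfl⟩
  rw [Set.ncard_union_eq ?_ (Set.toFinite _) (Set.toFinite _), h3,
    show ({x | x ∈ six} : Set G) = (six.toFinset : Set G) by ext x; simp, Set.ncard_coe_finset,
    List.toFinset_card_of_nodup hnd] at hbig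
  · simp [six] at hbig
  · rw [Set.disjoint_left]
    rintro x (rfl | rfl | rfl) hx
    exacts [(h6 _ hx).2.1 rfl, (h6 _ hx).2.2 hc0z, (h6 _ hx).2.2 hc'z]

end H95.J4Five
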