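import Cfsg.Agent.H95.J4Five.Instance
import Cfsg.Agent.H7.Fi24L.Aut
import Cfsg.Agent.H47.G23.Elem
import Cfsg.Prelude.Def_TwoFusion

/-!
# The centralizer and normalizer of an element of order five
-/

set_option autoImplicit false
set_option linter.unusedSectionVars false
set_option maxHeartbeats 400000

namespace H95.J4Five

open Subgroup Cfsg.Agent.H69.J4 H88.J4Fusion

/-- The statement about a subgroup of order five. -/
def Conclusion {G : Type*} [Group G] (Q : Subgroup G) : Prop :=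
  (∃ J : Subgroup G, Cfsg.IsInternalDirectProduct Q J (Subgroup.centralizer (Q : Set G)) ∧
      ∃ (E : Subgroup ↥J) (_ : E.Normal), Cfsg.IsElementaryAbelian 2 E ∧ Nat.card ↥E = 8 ∧
        Nonempty (↥J ⧸ E ≃* Matrix.SpecialLinearGroup (Fin 3) (ZMod 2)) ∧
          ∀ K : Subgroup ↥J, ¬ E.IsComplement' K) ∧
    (∃ R : Subgroup G, Q ≤ R ∧ R ≤ Subgroup.normalizer (Q : Set G) ∧ Nat.card ↥R = 20 ∧
      R ⊓ Subgroup.centralizer (Q : Set G) = Q) ∧
    Nat.card ↥(Subgroup.normalizer (Q : Set G)) = 2 ^ 8 * 3 * 5 * 7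

theorem centralizer_map {G : Type*} [Group G] (f : G ≃* G) (Q : Subgroup G) :
    centralizer ((Q.map f.toMonoidHom : Subgroup G) : Set G) =
      (centralizer (Q : Set G)).map f.toMonoidHom := by
  ext y
  obtain ⟨x, rfl⟩ := f.surjective y
  rw [show f x ∈ (centralizer (Q : Set G)).map f.toMonoidHom ↔ x ∈ centralizer (Q : Set G) from
    mem_map_iff_mem f.injective, mem_centralizer_iff, mem_centralizer_iff]
  refine ⟨fun h q hq => f.injective ?_, ?_⟩
  · rw [map_mul, map_mul]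
    exact h _ ⟨q, hq, rfl⟩
  · rintro h _ ⟨q, hq, rfl⟩
    show f q * f x = f x * f q
    rw [← map_mul, ← map_mul, h q hq]

/-- The statement is preserved by automorphisms. -/
theorem Conclusion.map {G : Type*} [Group G] [Finite G] {Q : Subgroup G} (h : Conclusion Q) (f : G ≃* G) :
    Conclusion (Q.map f.toMonoidHom) := by
  obtain ⟨⟨J, ⟨h1, h2, h3, h4, h5⟩, E, hE, hel, hc, ⟨i⟩, hns⟩, ⟨R, r1, r2, r3, r4⟩, hN⟩ := h
  have hcard : ∀ A : Subgroup G, Nat.card ↥(A.map f.toMonoidHom) = Nat.card A := fun A =>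
    (Nat.card_congr (A.equivMapOfInjective _ f.injective).toEquiv).symm
  have hnorm : normalizer ((Q.map f.toMonoidHom : Subgroup G) : Set G) =
      (normalizer (Q : Set G)).map f.toMonoidHom := (map_equiv_normalizer_eq Q f).symm
  refine ⟨⟨J.map f.toMonoidHom, ⟨?_, ?_, ?_, ?_, ?_⟩, ?_⟩,
    ⟨R.map f.toMonoidHom, map_mono r1, ?_, by rw [hcard, r3], ?_⟩, by rw [hnorm, hcard, hN]⟩
  · rw [centralizer_map]; exact map_mono h1
  · rw [centralizer_map]; exact map_mono h2
  · rintro _ ⟨a, ha, rfl⟩ _ ⟨b, hb, rfl⟩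
    rw [← map_mul, ← map_mul, h3 a ha b hb]
  · rw [← map_inf _ _ _ f.injective, h4, Subgroup.map_bot]
  · rw [← Subgroup.map_sup, h5, centralizer_map]
  · let ψ : ↥J ≃* ↥(J.map f.toMonoidHom) := J.equivMapOfInjective _ f.injective
    haveI := hE
    have hEn : (E.map (ψ : ↥J →* ↥(J.map f.toMonoidHom))).Normal := hE.map _ ψ.surjective
    refine ⟨E.map (ψ : ↥J →* ↥(J.map f.toMonoidHom)), hEn, ⟨⟨⟨?_⟩⟩, ?_⟩, ?_, ?_, ?_⟩
    · rintro ⟨_, u, hu, rfl⟩ ⟨_, v, hv, rfl⟩
      refine Subtype.ext ?_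
      show (ψ : ↥J →* ↥(J.map f.toMonoidHom)) u * (ψ : ↥J →* ↥(J.map f.toMonoidHom)) v = _ * _
      rw [← map_mul, ← map_mul]
      exact congrArg _ (congrArg Subtype.val (hel.1.1.1 ⟨u, hu⟩ ⟨v, hv⟩))
    · rintro _ ⟨u, hu, rfl⟩
      rw [← map_pow, hel.2 u hu, map_one]
    · rw [card_map_of_injective ψ.injective, hc]
    · exact ⟨(QuotientGroup.congr E (E.map (ψ : ↥J →* ↥(J.map f.toMonoidHom))) ψ rfl).symm.trans i⟩
    · intro K hK
      refine hns (K.comap (ψ : ↥J →* ↥(J.map f.toMonoidHom))) ?_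
      refine isComplement'_of_card_mul_and_disjoint ?_ ?_
      · have h := hK.card_mul_card
        rw [card_map_of_injective ψ.injective] at h
        have hK' : Nat.card ↥(K.comap (ψ : ↥J →* ↥(J.map f.toMonoidHom))) = Nat.card K :=
          Nat.card_congr ⟨fun x => ⟨ψ x.1, x.2⟩, fun y => ⟨ψ.symm y.1, by
            show ψ (ψ.symm y.1) ∈ K
            rw [ψ.apply_symm_apply]
            exact y.2⟩,
            fun x => Subtype.ext (ψ.symm_apply_apply _), fun y => Subtype.ext (ψ.apply_symm_apply _)⟩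
        rw [hK', h]
        exact (Nat.card_congr ψ.toEquiv).symm
      · rw [disjoint_iff, eq_bot_iff]
        rintro x ⟨hx1, hx2⟩
        have h : ψ x ∈ E.map (ψ : ↥J →* ↥(J.map f.toMonoidHom)) ⊓ K := ⟨⟨x, hx1, rfl⟩, hx2⟩
        rw [hK.disjoint.eq_bot, mem_bot] at h
        exact mem_bot.2 (ψ.map_eq_one_iff.1 h)
  · rw [hnorm]; exact map_mono r2
  · rw [centralizer_map, ← map_inf _ _ _ f.injective, r4]

variable {G : Type*} [Group G] [Finite G]
variable {z : G} {E P N : Subgroup G} {d : Data z E P} (R : Real d)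
  {e : ↥(centralizer ({z} : Set G)) →* MulAut ↥Cfsg.Spor.M22}

theorem line_iff [IsSimpleGroup G] (hG : ¬ IsMulCommutative G)
    (hJ : Cfsg.IsOfJankoFourTypeWith z P) (o : Outer z E P N e) (x : G) :
    x ∈ lineE R ↔ x ∈ centralizer ((zpowers (q5 R : G) : Subgroup G) : Set G) ∧ (x = 1 ∨ IsConj z x) := by
  rw [mem_lineE R hG o (card_zO R hG hJ)]
  refine ⟨fun h => ⟨h.1.2, h.2⟩, ?_⟩
  rintro ⟨hx, rfl | hxz⟩
  · exact ⟨one_mem _, Or.inl rfl⟩
  have h := (env R hG hJ o).mem_line_z ⟨hxz, hx⟩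
  exact ⟨(congrArg (· ⊓ centralizer ((zpowers (q5 R : G) : Subgroup G) : Set G)) d.L.hE).ge h.1, Or.inr hxz⟩

/-- The fixed points in `E` centralizing the line. -/
theorem card_fix_line [IsSimpleGroup G] (hG : ¬ IsMulCommutative G)
    (hJ : Cfsg.IsOfJankoFourTypeWith z P) (o : Outer z E P N e) :
    Nat.card ↥(fixE R ⊓ centralizer (lineE R : Set G)) ∣ 8 := by
  classical
  set A := fixE R ⊓ centralizer (lineE R : Set G)
  have hd : Nat.card A ∣ 32 := card_fixE R ▸ Subgroup.card_dvd_of_le inf_le_left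
  have hline : ∀ l ∈ lineE R, l ∈ fixE R := fun l hl =>
    ((mem_lineE R hG o (card_zO R hG hJ)).1 hl).1
  suffices hlt : Nat.card A < 16 by
    obtain ⟨k, hk, hkA⟩ := (Nat.dvd_prime_pow Nat.prime_two).1 (show Nat.card A ∣ 2 ^ 5 from hd)
    rw [hkA] at hlt ⊢
    exact pow_dvd_pow 2 (show k ≤ 3 from by
      by_contra h3
      have : 2 ^ 4 ≤ 2 ^ k := Nat.pow_le_pow_right (by norm_num) (by omega)
      omega)
  by_contra hA
  push Not at hA
  have hidx : (A.subgroupOf (fixE R)).index ≤ 2 := by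
    have h := (A.subgroupOf (fixE R)).card_mul_index
    rw [Nat.card_congr (subgroupOfEquivOfLe (inf_le_left : A ≤ fixE R)).toEquiv, card_fixE] at h
    by_contra h3
    have := Nat.mul_le_mul hA (show 3 ≤ (A.subgroupOf (fixE R)).index by omega)
    generalize Nat.card ↥A * (A.subgroupOf (fixE R)).index = c at this h
    omega
  -- an element `y` generating `fixE` over `A`
  obtain ⟨y, hy, hgen⟩ : ∃ y ∈ fixE R, ∀ w ∈ fixE R, w ∈ A ∨ y⁻¹ * w ∈ A := by
    by_cases h : fixE R ≤ A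
    · exact ⟨1, one_mem _, fun w hw => Or.inl (h hw)⟩
    obtain ⟨y, hy, hyA⟩ := SetLike.not_le_iff_exists.1 h
    refine ⟨y, hy, fun w hw => or_iff_not_imp_left.2 fun hwA => ?_⟩
    have h2 : (A.subgroupOf (fixE R)).index = 2 := by
      have h1 : (A.subgroupOf (fixE R)).index ≠ 1 := fun h1 => h (subgroupOf_eq_top.1 (index_eq_one.1 h1))
      have h0 : (A.subgroupOf (fixE R)).index ≠ 0 := index_ne_zero_of_finite
      omega
    exact (mul_mem_iff_of_index_two h2 (a := (⟨y, hy⟩ : ↥(fixE R))⁻¹) (b := ⟨w, hw⟩)).2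
      (iff_of_false (fun h' => hyA (inv_mem_iff.1 h' : (⟨y, hy⟩ : ↥(fixE R)) ∈ A.subgroupOf _)) hwA)
  have hyl : ∀ l ∈ lineE R, y * l * y⁻¹ = l ∨ y * l * y⁻¹ = l * z := by
    intro l hl
    have hlE := (hline l hl).1
    have hcE : y * l * y⁻¹ ∈ E := mul_mem (mul_mem hy.1 hlE) (inv_mem hy.1)
    have h : (QuotientGroup.mk (⟨y * l * y⁻¹, hcE⟩ : ↥E) : Bar E) = QuotientGroup.mk ⟨l, hlE⟩ := by
      rw [show (⟨y * l * y⁻¹, hcE⟩ : ↥E) = ⟨y, hy.1⟩ * ⟨l, hlE⟩ * (⟨y, hy.1⟩ : ↥E)⁻¹ from rfl,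
        QuotientGroup.mk_mul, QuotientGroup.mk_mul, QuotientGroup.mk_inv,
        d.comm_bar, inv_mul_cancel_left]
    exact (d.mk_eq_iff).1 h.symm
  -- a noncentral element of the line fixed by `y`
  obtain ⟨l, hl, hl1, hlz, hly⟩ : ∃ l ∈ lineE R, l ≠ 1 ∧ l ≠ z ∧ y * l * y⁻¹ = l := by
    have h8 : (lineE R : Set G).ncard = 8 := by rw [← Nat.card_coe_set_eq]; exact card_lineE R
    obtain ⟨a, ha, ha'⟩ := Set.exists_mem_notMem_of_ncard_lt_ncard
      (s := ({1, z} : Set G)) (t := (lineE R : Set G)) (by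
        rw [h8]; exact lt_of_le_of_lt ((Set.ncard_insert_le _ _).trans
          (by rw [Set.ncard_singleton])) (by norm_num)) (Set.toFinite _)
    simp only [Set.mem_insert_iff, Set.mem_singleton_iff, not_or] at ha'
    rcases hyl a ha with hay | hay
    · exact ⟨a, ha, ha'.1, ha'.2, hay⟩
    obtain ⟨b, hb, hb'⟩ := Set.exists_mem_notMem_of_ncard_lt_ncard
      (s := ({1, z, a⁻¹, a⁻¹ * z} : Set G)) (t := (lineE R : Set G)) (by
        rw [h8]
        refine lt_of_le_of_lt ((Set.ncard_insert_le _ _).trans (Nat.succ_le_succ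
          ((Set.ncard_insert_le _ _).trans (Nat.succ_le_succ ((Set.ncard_insert_le _ _).trans
            (by rw [Set.ncard_singleton])))))) (by norm_num)) (Set.toFinite _)
    simp only [Set.mem_insert_iff, Set.mem_singleton_iff, not_or] at hb'
    rcases hyl b hb with hby | hby
    · exact ⟨b, hb, hb'.1, hb'.2.1, hby⟩
    refine ⟨a * b, mul_mem ha hb, fun h => hb'.2.2.1 ?_, fun h => hb'.2.2.2 ?_, ?_⟩
    · rw [← mul_right_inj a, mul_inv_cancel, h]
    · rw [← h, inv_mul_cancel_left]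
    · have hbz : z * b = b * z := (mem_centralizer_singleton_iff.1 (d.L.le_H (hline b hb).1)).symm
      calc y * (a * b) * y⁻¹ = y * a * y⁻¹ * (y * b * y⁻¹) := by group
        _ = a * (z * b) * z := by rw [hay, hby]; group
        _ = a * b := by rw [hbz, mul_assoc, mul_assoc, d.L.zz, mul_one]
  refine (fixE_centre R (hline l hl) fun w hw => ?_).elim hl1 hlz
  rcases hgen w hw with h | h
  · exact mem_centralizer_iff.1 h.2 l hl
  · have h1 : Commute l (y⁻¹ * w) := mem_centralizer_iff.1 h.2 l hl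
    have h2 : Commute l y := (mul_inv_eq_iff_eq_mul.1 hly).symm
    have h3 := h2.mul_right h1
    rw [mul_inv_cancel_left] at h3
    exact h3.eq

include R in
theorem not_25 [IsSimpleGroup G] (hG : ¬ IsMulCommutative G)
    (hJ : Cfsg.IsOfJankoFourTypeWith z P) (o : Outer z E P N e) :
    ¬ 25 ∣ Nat.card G := by
  intro h
  haveI : Fact (Nat.Prime 5) := ⟨by norm_num⟩
  obtain ⟨T, hT, hle⟩ := Sylow.exists_subgroup_card_pow_prime_le 5 (n := 1) (m := 2)
    (show 5 ^ 2 ∣ Nat.card G from h) (zpowers (q5 R : G)) (by rw [card_zpowers_q5, pow_one]) (by norm_num)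
  have hcomm := IsPGroup.isMulCommutative_of_card_eq_prime_sq (G := ↥T) (p := 5) hT
  have hTC : T ≤ centralizer ((zpowers (q5 R : G) : Subgroup G) : Set G) := fun t ht => mem_centralizer_iff.2 fun q hq =>
    congrArg Subtype.val (hcomm.1.1 ⟨q, hle hq⟩ ⟨t, ht⟩)
  have h' := Subgroup.card_dvd_of_le hTC
  rw [hT, (env R hG hJ o).card_centralizer] at h'
  norm_num at h'

theorem sl32_eq_top {A : Type*} [Group A] [Finite A]
    (i : A ≃* Matrix.SpecialLinearGroup (Fin 3) (ZMod 2)) (H : Subgroup A)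
    (h : 28 ∣ Nat.card H) : H = ⊤ := by
  haveI := H47.G23.simple_sl32
  haveI := i.isSimpleGroup
  have hA : Nat.card A = 168 := (Nat.card_congr i.toEquiv).trans H47.G23.card_sl32
  obtain ⟨m, hm⟩ := h
  have hidx := H.card_mul_index
  rw [hA, hm, mul_assoc] at hidx
  have hdvd : H.index ∣ 6 := ⟨m, Nat.eq_of_mul_eq_mul_left (by norm_num : 0 < 28)
    (show 28 * 6 = 28 * (H.index * m) by rw [mul_comm H.index m]; exact hidx.symm)⟩
  by_contra hne
  have hk : (MulAction.toPermHom A (A ⧸ H)).ker = ⊥ := by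
    refine (IsSimpleGroup.eq_bot_or_eq_top_of_normal _ inferInstance).resolve_right fun ht => hne ?_
    rw [eq_top_iff]
    refine fun a _ => ?_
    have h1 : MulAction.toPermHom A (A ⧸ H) a = 1 := MonoidHom.mem_ker.1 (ht ▸ mem_top a)
    have h2 := Equiv.congr_fun h1 ((1 : A) : A ⧸ H)
    change ((a * 1 : A) : A ⧸ H) = ((1 : A) : A ⧸ H) at h2
    have h3 := QuotientGroup.eq.1 h2.symm
    simpa using h3
  have hd : Nat.card A ∣ Nat.card (Equiv.Perm (A ⧸ H)) :=
    card_dvd_of_injective _ ((MonoidHom.ker_eq_bot_iff _).1 hk)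
  rw [Nat.card_perm, ← index_eq_card, hA] at hd
  have h6 : H.index ≤ 6 := Nat.le_of_dvd (by norm_num) hdvd
  interval_cases H.index <;> norm_num [Nat.factorial] at hd

theorem centralizer_part [IsSimpleGroup G] (hG : ¬ IsMulCommutative G)
    (hJ : Cfsg.IsOfJankoFourTypeWith z P) (o : Outer z E P N e) :
    ∃ J : Subgroup G, Cfsg.IsInternalDirectProduct (zpowers (q5 R : G)) J (Subgroup.centralizer ((zpowers (q5 R : G) : Subgroup G) : Set G)) ∧
      ∃ (E' : Subgroup ↥J) (_ : E'.Normal), Cfsg.IsElementaryAbelian 2 E' ∧ Nat.card ↥E' = 8 ∧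
        Nonempty (↥J ⧸ E' ≃* Matrix.SpecialLinearGroup (Fin 3) (ZMod 2)) ∧
          ∀ K : Subgroup ↥J, ¬ E'.IsComplement' K := by
  classical
  haveI : Fact (Nat.Prime 5) := ⟨by norm_num⟩
  haveI : Fact (Nat.Prime 2) := ⟨Nat.prime_two⟩
  have X := env R hG hJ o
  have hC := X.card_centralizer
  set C := centralizer ((zpowers (q5 R : G) : Subgroup G) : Set G) with hCdef
  set L := lineE R with hLdef
  have hL := line_iff R hG hJ o
  have hLC : L ≤ C := fun x hx => ((hL x).1 hx).1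
  have hqC : (zpowers (q5 R : G)) ≤ C := zpowers_le.2 ((mem_cent_iff R).2 rfl)
  have hcen : ∀ u ∈ (zpowers (q5 R : G)), ∀ c ∈ C, u * c = c * u := fun u hu c hc => mem_centralizer_iff.1 hc u hu
  haveI hQn : ((zpowers (q5 R : G)).subgroupOf C).Normal := ⟨fun x hx c => mem_subgroupOf.2 (by
    show (c : G) * x * (c : G)⁻¹ ∈ (zpowers (q5 R : G))
    rw [← hcen x hx c c.2, mul_inv_cancel_right]
    exact hx)⟩
  have hQcard : Nat.card ↥((zpowers (q5 R : G)).subgroupOf C) = 5 :=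
    (Nat.card_congr (subgroupOfEquivOfLe hqC).toEquiv).trans (card_zpowers_q5 R)
  have hQidx : ((zpowers (q5 R : G)).subgroupOf C).index = 1344 := by
    have := ((zpowers (q5 R : G)).subgroupOf C).card_mul_index
    rw [hQcard, hC] at this
    omega
  obtain ⟨J₀, hJ₀⟩ := exists_right_complement'_of_coprime (N := (zpowers (q5 R : G)).subgroupOf C)
    (by rw [hQcard, hQidx]; norm_num)
  have hJ₀c : Nat.card J₀ = 1344 := by
    have := hJ₀.card_mul_card
    rw [hQcard, hC] at this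
    omega
  haveI hJn : J₀.Normal := by
    rw [← normalizer_eq_top_iff, ← top_le_iff, ← hJ₀.sup_eq_top]
    refine sup_le (fun u hu => ?_) le_normalizer
    refine mem_normalizer_iff.2 fun x => ?_
    have : u * x * u⁻¹ = x := by
      rw [show u * x = x * u from Subtype.ext (hcen u hu x x.2), mul_inv_cancel_right]
    rw [this]
  have hJidx : J₀.index = 5 := by
    have := J₀.card_mul_index
    rw [hJ₀c, hC] at this
    omega
  set J := J₀.map C.subtype with hJdef
  have hJC : J ≤ C := map_subtype_le _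
  have hmemJ : ∀ x (hx : x ∈ C), x ∈ J ↔ (⟨x, hx⟩ : ↥C) ∈ J₀ := fun x hx =>
    ⟨by rintro ⟨y, hy, rfl⟩; exact hy, fun h => ⟨_, h, rfl⟩⟩
  -- elements of two-power order lie in `J`
  have hjmem : ∀ x ∈ C, ∀ k : ℕ, x ^ 2 ^ k = 1 → x ∈ J := by
    intro x hx k hk
    rw [hmemJ x hx, ← QuotientGroup.eq_one_iff]
    refine orderOf_eq_one_iff.1 (Nat.eq_one_of_dvd_coprimes (a := 5) (b := 2 ^ k)
      (Nat.Coprime.pow_right _ (by norm_num)) ?_ ?_)
    · rw [← hJidx, index_eq_card]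
      exact orderOf_dvd_natCard _
    · refine orderOf_dvd_of_pow_eq_one ?_
      rw [← QuotientGroup.mk_pow, show (⟨x, hx⟩ : ↥C) ^ 2 ^ k = 1 from Subtype.ext hk]
      rfl
  have hL2 : ∀ x ∈ L, x * x = 1 := fun x hx => ((hL x).1 hx).2.elim
    (fun h => by rw [h, one_mul]) X.zt_sq
  have hLcomm : ∀ x ∈ L, ∀ y ∈ L, x * y = y * x := fun x hx y hy => by
    have h := hL2 _ (mul_mem hx hy)
    calc x * y = (x * y)⁻¹ := (inv_eq_of_mul_eq_one_right h).symm
      _ = y * x := by rw [mul_inv_rev, inv_eq_of_mul_eq_one_right (hL2 x hx),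
        inv_eq_of_mul_eq_one_right (hL2 y hy)]
  have hLJ : L ≤ J := fun x hx => hjmem x (hLC hx) 1 (by rw [pow_one, pow_two, hL2 x hx])
  have hCL : C ≤ normalizer (L : Set G) := by
    intro c hc
    refine mem_normalizer_iff.2 fun x => ?_
    rw [hL, hL, conj_mem_cent hc, conj_eq_one_iff]
    exact and_congr_right fun _ => or_congr_right
      ⟨fun h => h.trans (isConj_iff.2 ⟨c, rfl⟩), fun h => h.trans (isConj_iff.2 ⟨c⁻¹, by group⟩)⟩
  refine ⟨J, ⟨hqC, hJC, fun a ha b hb => hcen a ha b (hJC hb), ?_, ?_⟩, ?_⟩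
  · rw [eq_bot_iff]
    rintro x ⟨hx1, hx2⟩
    have h : (⟨x, hJC hx2⟩ : ↥C) ∈ (zpowers (q5 R : G)).subgroupOf C ⊓ J₀ :=
      ⟨hx1, (hmemJ x (hJC hx2)).1 hx2⟩
    rw [hJ₀.disjoint.eq_bot, mem_bot] at h
    exact mem_bot.2 (congrArg Subtype.val h)
  · have h := congrArg (Subgroup.map C.subtype) hJ₀.sup_eq_top
    rwa [Subgroup.map_sup, subgroupOf_map_subtype, inf_eq_left.2 hqC, ← MonoidHom.range_eq_map,
      range_subtype] at h
  set E' := L.subgroupOf J with hE'
  have hE'n : E'.Normal := ⟨fun x hx j =>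
    mem_subgroupOf.2 ((mem_normalizer_iff.1 (hCL (hJC j.2)) _).1 (mem_subgroupOf.1 hx))⟩
  have hE'c : Nat.card E' = 8 :=
    (Nat.card_congr (subgroupOfEquivOfLe hLJ).toEquiv).trans (card_lineE R)
  have hJc : Nat.card J = 1344 := by rw [card_map_of_injective Subtype.val_injective, hJ₀c]
  -- the action on the line
  let act : ↥C →* MulAut ↥L := L.normalizerMonoidHom.comp (inclusion hCL)
  have hact : ∀ c : ↥C, act c = 1 ↔ (c : G) ∈ centralizer (L : Set G) := by
    intro c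
    show L.normalizerMonoidHom (inclusion hCL c) = 1 ↔ _
    rw [← MonoidHom.mem_ker, normalizerMonoidHom_ker]
    rfl
  let actJ : ↥J →* MulAut ↥L := act.comp (inclusion hJC)
  obtain ⟨iso⟩ := H7.Fi24L.mulAut_equiv (V := ↥L) (fun v => Subtype.ext (hL2 v v.2)) (card_lineE R)
  have hkerJ : Nat.card actJ.ker * Nat.card actJ.range = 1344 := by
    rw [← index_ker, card_mul_index, hJc]
  -- the kernel centralizes `z`
  have hker : Nat.card actJ.ker ∣ 192 := by
    have h1 : Nat.card actJ.ker ∣ 960 := by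
      rw [← (X.loc z (IsConj.refl z) X.z_cent).card_cent]
      let f : ↥actJ.ker →* ↥(cent (zpowers (q5 R : G)) z) :=
        { toFun := fun x => ⟨x.1.1, mem_centralizer_singleton_iff.2
            (mem_centralizer_iff.1 ((hact _).1 x.2) z ((hL z).2
              ⟨X.z_cent, Or.inr (IsConj.refl z)⟩)).symm, hJC x.1.2⟩
          map_one' := rfl
          map_mul' := fun _ _ => rfl }
      exact card_dvd_of_injective f fun x y e => Subtype.ext (Subtype.ext
        (congrArg (fun w : ↥(cent (zpowers (q5 R : G)) z) => (w : G)) e))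
    exact (Nat.dvd_gcd h1 (Dvd.intro _ hkerJ)).trans (by norm_num)
  -- the fixed points in `E` act through a group of order at least four
  have hFC : fixE R ≤ C := inf_le_right
  have hFJ : fixE R ≤ J := fun x hx => hjmem x (hFC hx) 2 (by
    rw [show 2 ^ 2 = 2 * 2 from rfl, pow_mul, pow_two (x : G)]
    rcases d.L.sq_cases hx.1 with h | h <;> rw [h]
    · exact one_pow 2
    · rw [pow_two, d.L.zz])
  have h4 : 4 ∣ Nat.card actJ.range := by
    let g := actJ.comp (inclusion hFJ)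
    have hk : Nat.card g.ker ∣ 8 := by
      have h8 := card_fix_line R hG hJ o
      rwa [show Nat.card g.ker = Nat.card ↥(fixE R ⊓ centralizer (lineE R : Set G)) from ?_]
      refine Nat.card_congr ⟨fun x => ⟨x.1.1, x.1.2, (hact _).1 x.2⟩,
        fun y => ⟨⟨y.1, y.2.1⟩, (hact _).2 y.2.2⟩, fun _ => rfl, fun _ => rfl⟩
    have hg := g.ker.card_mul_index
    rw [index_ker, card_fixE] at hg
    obtain ⟨a, ha⟩ := hk
    have h4 : 4 ∣ Nat.card g.range := ⟨a, Nat.eq_of_mul_eq_mul_left (Nat.card_pos (α := g.ker))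
      (by rw [hg, mul_comm 4 a, ← mul_assoc, ← ha]; try norm_num)⟩
    exact h4.trans (Subgroup.card_dvd_of_le (by rintro _ ⟨x, rfl⟩; exact ⟨_, rfl⟩))
  have h7 : 7 ∣ Nat.card actJ.range := by
    obtain ⟨b, hb⟩ := hker
    exact ⟨b, Nat.eq_of_mul_eq_mul_left (Nat.card_pos (α := actJ.ker))
      (by rw [hkerJ, mul_comm 7 b, ← mul_assoc, ← hb]; try norm_num)⟩
  have htop : actJ.range = ⊤ :=
    sl32_eq_top iso _ (Nat.Coprime.mul_dvd_of_dvd_of_dvd (by norm_num) h4 h7)
  have hE'ker : actJ.ker = E' := by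
    refine (eq_of_le_of_card_ge (fun x hx => ?_) ?_).symm
    · exact (hact _).2 (mem_centralizer_iff.2 fun l hl => hLcomm l hl _ (mem_subgroupOf.1 hx))
    · have h := hkerJ
      rw [htop, card_top, Nat.card_congr iso.toEquiv, H47.G23.card_sl32] at h
      omega
  refine ⟨E', hE'n, ⟨⟨⟨fun a b => Subtype.ext (Subtype.ext
      (hLcomm _ (mem_subgroupOf.1 a.2) _ (mem_subgroupOf.1 b.2)))⟩⟩,
    fun a ha => Subtype.ext (by
      rw [SubgroupClass.coe_pow, pow_two]
      exact hL2 _ (mem_subgroupOf.1 ha))⟩, hE'c,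
    ⟨((QuotientGroup.quotientMulEquivOfEq hE'ker.symm).trans
      (QuotientGroup.quotientKerEquivOfSurjective actJ (MonoidHom.range_eq_top.1 htop))).trans iso⟩,
    fun K hK => ?_⟩
  -- no complement
  have hKc : Nat.card K = 168 := by
    have := hK.card_mul_card
    rw [hE'c, hJc] at this
    omega
  obtain ⟨T, hT⟩ := Sylow.exists_subgroup_card_pow_prime (G := ↥K) 2 (n := 3)
    (by rw [hKc]; norm_num)
  haveI : Nontrivial T := Finite.one_lt_card_iff_nontrivial.1 (by rw [hT]; norm_num)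
  haveI := (IsPGroup.of_card hT).center_nontrivial
  obtain ⟨c, hc⟩ := exists_prime_orderOf_dvd_card' (G := center ↥T) 2 (by
    obtain ⟨j, hj⟩ := IsPGroup.iff_card.1 ((IsPGroup.of_card hT).to_subgroup (center ↥T))
    rw [hj]
    refine dvd_pow_self 2 fun h0 => ?_
    rw [h0, pow_zero] at hj
    exact absurd hj (Finite.one_lt_card_iff_nontrivial.2 inferInstance).ne')
  set t : G := ((((c : ↥T) : ↥K) : ↥J) : G) with ht
  have ht2 : t * t = 1 := by
    have h := pow_orderOf_eq_one c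
    rw [hc, pow_two] at h
    exact congrArg (fun w : ↥(center ↥T) => ((((w : ↥T) : ↥K) : ↥J) : G)) h
  have ht1 : t ≠ 1 := fun h => by
    have h' : c = 1 := Subtype.ext (Subtype.ext (Subtype.ext (Subtype.ext h)))
    rw [h', orderOf_one] at hc
    norm_num at hc
  have htC : t ∈ C := hJC ((((c : ↥T) : ↥K) : ↥J)).2
  have htL : t ∉ L := fun h => ht1 (by
    have h' : (((c : ↥T) : ↥K) : ↥J) ∈ E' ⊓ K := ⟨mem_subgroupOf.2 h, ((c : ↥T) : ↥K).2⟩
    rw [hK.disjoint.eq_bot, mem_bot] at h'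
    exact congrArg Subtype.val h')
  have htz : ¬ IsConj z t := fun h => htL ((hL t).2 ⟨htC, Or.inr h⟩)
  have h80 := (second_local R hG hJ o ((mem_cent_iff R).1 htC) ht2 ht1 htz).1
  set D := centralizer ({t} : Set G) ⊓ C
  let g : ↥D →* MulAut ↥L := act.comp (inclusion inf_le_right)
  -- the fixed points of `t` on the line
  have hB : 4 ∣ Nat.card ↥(L ⊓ centralizer ({t} : Set G)) := by
    let f : ↥L →* ↥L :=
      { toFun := fun v => v * ⟨t * v * t⁻¹, (mem_normalizer_iff.1 (hCL htC) v).1 v.2⟩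
        map_one' := Subtype.ext (by simp)
        map_mul' := fun u v => Subtype.ext (by
          show (u : G) * v * (t * (u * v) * t⁻¹) = u * (t * u * t⁻¹) * (v * (t * v * t⁻¹))
          have h1 := hLcomm v v.2 (t * u * t⁻¹) ((mem_normalizer_iff.1 (hCL htC) u).1 u.2)
          calc (u : G) * v * (t * (u * v) * t⁻¹) = u * (v * (t * u * t⁻¹)) * (t * v * t⁻¹) := by group
            _ = _ := by rw [h1]; group) }
    have hti : t⁻¹ = t := inv_eq_of_mul_eq_one_right ht2
    have hk : Nat.card f.ker ≤ Nat.card ↥(L ⊓ centralizer ({t} : Set G)) := by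
      refine Nat.card_le_card_of_injective (fun x => ⟨x.1.1, x.1.2, ?_⟩)
        (fun x y e => Subtype.ext (Subtype.ext
          (congrArg (fun w : ↥(L ⊓ centralizer ({t} : Set G)) => (w : G)) e)))
      refine mem_centralizer_singleton_iff.2 ?_
      have h : (x.1 : G) * (t * x.1 * t⁻¹) = 1 := congrArg Subtype.val x.2
      have h' : t * (x.1 : G) * t⁻¹ = x.1 := by
        rw [← inv_eq_of_mul_eq_one_right h, inv_eq_of_mul_eq_one_right (hL2 _ x.1.2)]
      exact (mul_inv_eq_iff_eq_mul.1 h').symm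
    have hr : Nat.card f.range ≤ Nat.card ↥(L ⊓ centralizer ({t} : Set G)) := by
      rw [← card_map_of_injective (K := f.range) (f := L.subtype) Subtype.val_injective]
      refine Subgroup.card_le_of_le ?_
      rintro _ ⟨_, ⟨v, rfl⟩, rfl⟩
      refine ⟨(f v).2, mem_centralizer_singleton_iff.2 ?_⟩
      show (v : G) * (t * v * t⁻¹) * t = t * (v * (t * v * t⁻¹))
      have h1 := hLcomm v v.2 (t * v * t⁻¹) ((mem_normalizer_iff.1 (hCL htC) v).1 v.2)
      calc (v : G) * (t * v * t⁻¹) * t = (t * v * t⁻¹) * v * t := by rw [h1]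
        _ = t * v * (t⁻¹ * v * t) := by group
        _ = t * (v * (t * v * t⁻¹)) := by rw [hti, mul_assoc t]
    have h8 := f.ker.card_mul_index
    rw [index_ker, card_lineE R] at h8
    have hge := Nat.mul_le_mul hk hr
    rw [h8] at hge
    obtain ⟨j, hj, hjc⟩ := (Nat.dvd_prime_pow Nat.prime_two).1
      (show Nat.card ↥(L ⊓ centralizer ({t} : Set G)) ∣ 2 ^ 3 from
        (Subgroup.card_dvd_of_le inf_le_left).trans (by rw [card_lineE R]; norm_num))
    rw [hjc] at hge ⊢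
    rcases Nat.lt_or_ge j 2 with hj2 | hj2
    · interval_cases j <;> norm_num at hge
    · exact pow_dvd_pow 2 hj2
  have hgk : 4 ∣ Nat.card g.ker := by
    refine hB.trans ?_
    let f : ↥(L ⊓ centralizer ({t} : Set G)) →* ↥g.ker :=
      { toFun := fun x => ⟨⟨x.1, x.2.2, hLC x.2.1⟩, (hact _).2
          (mem_centralizer_iff.2 fun l hl => hLcomm l hl _ x.2.1)⟩
        map_one' := rfl
        map_mul' := fun _ _ => rfl }
    exact card_dvd_of_injective f fun x y e => Subtype.ext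
      (congrArg (fun w : ↥g.ker => ((w : ↥D) : G)) e)
  have hgr : 8 ∣ Nat.card g.range := by
    let f : ↥T →* MulAut ↥L := actJ.comp (K.subtype.comp T.subtype)
    have hf : Function.Injective f := by
      rw [← MonoidHom.ker_eq_bot_iff, eq_bot_iff]
      intro x hx
      have h1 : ((x : ↥K) : ↥J) ∈ E' := hE'ker ▸ (MonoidHom.mem_ker.2 hx)
      have h2 : ((x : ↥K) : ↥J) ∈ E' ⊓ K := ⟨h1, (x : ↥K).2⟩
      rw [hK.disjoint.eq_bot, mem_bot] at h2
      exact mem_bot.2 (Subtype.ext (Subtype.ext h2))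
    have hsub : f.range ≤ g.range := by
      rintro _ ⟨x, rfl⟩
      refine ⟨⟨(((x : ↥K) : ↥J) : G), mem_centralizer_singleton_iff.2 ?_,
        hJC ((x : ↥K) : ↥J).2⟩, rfl⟩
      exact congrArg (fun w : ↥T => (((w : ↥K) : ↥J) : G)) (mem_center_iff.1 c.2 x)
    have h := Subgroup.card_dvd_of_le hsub
    rwa [Nat.card_congr (MonoidHom.ofInjective hf).toEquiv.symm, hT] at h
  have hD := g.ker.card_mul_index
  rw [index_ker] at hD
  have h32 : 32 ∣ 80 := ((Nat.mul_dvd_mul hgk hgr).trans hD.dvd).trans h80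
  norm_num at h32

/-- The centralizer induces every automorphism of the line, with kernel `Q × L`. -/
theorem line_action [IsSimpleGroup G] (hG : ¬ IsMulCommutative G)
    (hJ : Cfsg.IsOfJankoFourTypeWith z P) (o : Outer z E P N e) :
    ∃ hCL : centralizer ((zpowers (q5 R : G) : Subgroup G) : Set G) ≤
        normalizer (lineE R : Set G),
      (∀ a : MulAut ↥(lineE R), ∃ c, (lineE R).normalizerMonoidHom (inclusion hCL c) = a) ∧
      ∀ c ∈ centralizer ((zpowers (q5 R : G) : Subgroup G) : Set G),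
        c ∈ centralizer (lineE R : Set G) → ∃ a ∈ zpowers (q5 R : G), ∃ l ∈ lineE R, c = a * l := by
  classical
  haveI : Fact (Nat.Prime 5) := ⟨by norm_num⟩
  haveI : Fact (Nat.Prime 2) := ⟨Nat.prime_two⟩
  have X := env R hG hJ o
  have hC := X.card_centralizer
  set C := centralizer ((zpowers (q5 R : G) : Subgroup G) : Set G) with hCdef
  set L := lineE R with hLdef
  have hL := line_iff R hG hJ o
  have hLC : L ≤ C := fun x hx => ((hL x).1 hx).1
  have hqC : (zpowers (q5 R : G)) ≤ C := zpowers_le.2 ((mem_cent_iff R).2 rfl)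
  have hcen : ∀ u ∈ (zpowers (q5 R : G)), ∀ c ∈ C, u * c = c * u := fun u hu c hc => mem_centralizer_iff.1 hc u hu
  haveI hQn : ((zpowers (q5 R : G)).subgroupOf C).Normal := ⟨fun x hx c => mem_subgroupOf.2 (by
    show (c : G) * x * (c : G)⁻¹ ∈ (zpowers (q5 R : G))
    rw [← hcen x hx c c.2, mul_inv_cancel_right]
    exact hx)⟩
  have hQcard : Nat.card ↥((zpowers (q5 R : G)).subgroupOf C) = 5 :=
    (Nat.card_congr (subgroupOfEquivOfLe hqC).toEquiv).trans (card_zpowers_q5 R)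
  have hQidx : ((zpowers (q5 R : G)).subgroupOf C).index = 1344 := by
    have := ((zpowers (q5 R : G)).subgroupOf C).card_mul_index
    rw [hQcard, hC] at this
    omega
  obtain ⟨J₀, hJ₀⟩ := exists_right_complement'_of_coprime (N := (zpowers (q5 R : G)).subgroupOf C)
    (by rw [hQcard, hQidx]; norm_num)
  have hJ₀c : Nat.card J₀ = 1344 := by
    have := hJ₀.card_mul_card
    rw [hQcard, hC] at this
    omega
  haveI hJn : J₀.Normal := by
    rw [← normalizer_eq_top_iff, ← top_le_iff, ← hJ₀.sup_eq_top]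
    refine sup_le (fun u hu => ?_) le_normalizer
    refine mem_normalizer_iff.2 fun x => ?_
    have : u * x * u⁻¹ = x := by
      rw [show u * x = x * u from Subtype.ext (hcen u hu x x.2), mul_inv_cancel_right]
    rw [this]
  have hJidx : J₀.index = 5 := by
    have := J₀.card_mul_index
    rw [hJ₀c, hC] at this
    omega
  set J := J₀.map C.subtype with hJdef
  have hJC : J ≤ C := map_subtype_le _
  have hmemJ : ∀ x (hx : x ∈ C), x ∈ J ↔ (⟨x, hx⟩ : ↥C) ∈ J₀ := fun x hx =>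
    ⟨by rintro ⟨y, hy, rfl⟩; exact hy, fun h => ⟨_, h, rfl⟩⟩
  -- elements of two-power order lie in `J`
  have hjmem : ∀ x ∈ C, ∀ k : ℕ, x ^ 2 ^ k = 1 → x ∈ J := by
    intro x hx k hk
    rw [hmemJ x hx, ← QuotientGroup.eq_one_iff]
    refine orderOf_eq_one_iff.1 (Nat.eq_one_of_dvd_coprimes (a := 5) (b := 2 ^ k)
      (Nat.Coprime.pow_right _ (by norm_num)) ?_ ?_)
    · rw [← hJidx, index_eq_card]
      exact orderOf_dvd_natCard _
    · refine orderOf_dvd_of_pow_eq_one ?_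
      rw [← QuotientGroup.mk_pow, show (⟨x, hx⟩ : ↥C) ^ 2 ^ k = 1 from Subtype.ext hk]
      rfl
  have hL2 : ∀ x ∈ L, x * x = 1 := fun x hx => ((hL x).1 hx).2.elim
    (fun h => by rw [h, one_mul]) X.zt_sq
  have hLcomm : ∀ x ∈ L, ∀ y ∈ L, x * y = y * x := fun x hx y hy => by
    have h := hL2 _ (mul_mem hx hy)
    calc x * y = (x * y)⁻¹ := (inv_eq_of_mul_eq_one_right h).symm
      _ = y * x := by rw [mul_inv_rev, inv_eq_of_mul_eq_one_right (hL2 x hx),
        inv_eq_of_mul_eq_one_right (hL2 y hy)]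
  have hLJ : L ≤ J := fun x hx => hjmem x (hLC hx) 1 (by rw [pow_one, pow_two, hL2 x hx])
  have hCL : C ≤ normalizer (L : Set G) := by
    intro c hc
    refine mem_normalizer_iff.2 fun x => ?_
    rw [hL, hL, conj_mem_cent hc, conj_eq_one_iff]
    exact and_congr_right fun _ => or_congr_right
      ⟨fun h => h.trans (isConj_iff.2 ⟨c, rfl⟩), fun h => h.trans (isConj_iff.2 ⟨c⁻¹, by group⟩)⟩
  set E' := L.subgroupOf J with hE'
  have hE'n : E'.Normal := ⟨fun x hx j =>
    mem_subgroupOf.2 ((mem_normalizer_iff.1 (hCL (hJC j.2)) _).1 (mem_subgroupOf.1 hx))⟩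
  have hE'c : Nat.card E' = 8 :=
    (Nat.card_congr (subgroupOfEquivOfLe hLJ).toEquiv).trans (card_lineE R)
  have hJc : Nat.card J = 1344 := by rw [card_map_of_injective Subtype.val_injective, hJ₀c]
  -- the action on the line
  let act : ↥C →* MulAut ↥L := L.normalizerMonoidHom.comp (inclusion hCL)
  have hact : ∀ c : ↥C, act c = 1 ↔ (c : G) ∈ centralizer (L : Set G) := by
    intro c
    show L.normalizerMonoidHom (inclusion hCL c) = 1 ↔ _
    rw [← MonoidHom.mem_ker, normalizerMonoidHom_ker]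
    rfl
  let actJ : ↥J →* MulAut ↥L := act.comp (inclusion hJC)
  obtain ⟨iso⟩ := H7.Fi24L.mulAut_equiv (V := ↥L) (fun v => Subtype.ext (hL2 v v.2)) (card_lineE R)
  have hkerJ : Nat.card actJ.ker * Nat.card actJ.range = 1344 := by
    rw [← index_ker, card_mul_index, hJc]
  -- the kernel centralizes `z`
  have hker : Nat.card actJ.ker ∣ 192 := by
    have h1 : Nat.card actJ.ker ∣ 960 := by
      rw [← (X.loc z (IsConj.refl z) X.z_cent).card_cent]
      let f : ↥actJ.ker →* ↥(cent (zpowers (q5 R : G)) z) :=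
        { toFun := fun x => ⟨x.1.1, mem_centralizer_singleton_iff.2
            (mem_centralizer_iff.1 ((hact _).1 x.2) z ((hL z).2
              ⟨X.z_cent, Or.inr (IsConj.refl z)⟩)).symm, hJC x.1.2⟩
          map_one' := rfl
          map_mul' := fun _ _ => rfl }
      exact card_dvd_of_injective f fun x y e => Subtype.ext (Subtype.ext
        (congrArg (fun w : ↥(cent (zpowers (q5 R : G)) z) => (w : G)) e))
    exact (Nat.dvd_gcd h1 (Dvd.intro _ hkerJ)).trans (by norm_num)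
  -- the fixed points in `E` act through a group of order at least four
  have hFC : fixE R ≤ C := inf_le_right
  have hFJ : fixE R ≤ J := fun x hx => hjmem x (hFC hx) 2 (by
    rw [show 2 ^ 2 = 2 * 2 from rfl, pow_mul, pow_two (x : G)]
    rcases d.L.sq_cases hx.1 with h | h <;> rw [h]
    · exact one_pow 2
    · rw [pow_two, d.L.zz])
  have h4 : 4 ∣ Nat.card actJ.range := by
    let g := actJ.comp (inclusion hFJ)
    have hk : Nat.card g.ker ∣ 8 := by
      have h8 := card_fix_line R hG hJ o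
      rwa [show Nat.card g.ker = Nat.card ↥(fixE R ⊓ centralizer (lineE R : Set G)) from ?_]
      refine Nat.card_congr ⟨fun x => ⟨x.1.1, x.1.2, (hact _).1 x.2⟩,
        fun y => ⟨⟨y.1, y.2.1⟩, (hact _).2 y.2.2⟩, fun _ => rfl, fun _ => rfl⟩
    have hg := g.ker.card_mul_index
    rw [index_ker, card_fixE] at hg
    obtain ⟨a, ha⟩ := hk
    have h4 : 4 ∣ Nat.card g.range := ⟨a, Nat.eq_of_mul_eq_mul_left (Nat.card_pos (α := g.ker))
      (by rw [hg, mul_comm 4 a, ← mul_assoc, ← ha]; try norm_num)⟩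
    exact h4.trans (Subgroup.card_dvd_of_le (by rintro _ ⟨x, rfl⟩; exact ⟨_, rfl⟩))
  have h7 : 7 ∣ Nat.card actJ.range := by
    obtain ⟨b, hb⟩ := hker
    exact ⟨b, Nat.eq_of_mul_eq_mul_left (Nat.card_pos (α := actJ.ker))
      (by rw [hkerJ, mul_comm 7 b, ← mul_assoc, ← hb]; try norm_num)⟩
  have htop : actJ.range = ⊤ :=
    sl32_eq_top iso _ (Nat.Coprime.mul_dvd_of_dvd_of_dvd (by norm_num) h4 h7)
  have hE'ker : actJ.ker = E' := by
    refine (eq_of_le_of_card_ge (fun x hx => ?_) ?_).symm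
    · exact (hact _).2 (mem_centralizer_iff.2 fun l hl => hLcomm l hl _ (mem_subgroupOf.1 hx))
    · have h := hkerJ
      rw [htop, card_top, Nat.card_congr iso.toEquiv, H47.G23.card_sl32] at h
      omega
  refine ⟨hCL, fun a => ?_, fun c hc hcL => ?_⟩
  · obtain ⟨j, hj⟩ := MonoidHom.range_eq_top.1 htop a
    exact ⟨inclusion hJC j, hj⟩
  · have hsup : (⟨c, hc⟩ : ↥C) ∈ (zpowers (q5 R : G)).subgroupOf C ⊔ J₀ := by
      rw [hJ₀.sup_eq_top]; exact mem_top _
    obtain ⟨a, ha, j, hj, hajc⟩ := mem_sup_of_normal_left.1 hsup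
    refine ⟨a, ha, j, ?_, (congrArg Subtype.val hajc).symm⟩
    have hjJ : (j : G) ∈ J := ⟨j, hj, rfl⟩
    have haL : (a : G) ∈ centralizer (L : Set G) :=
      mem_centralizer_iff.2 fun l hl => (hcen _ ha l (hLC hl)).symm
    have hjL : (j : G) ∈ centralizer (L : Set G) := by
      have h := Subgroup.mul_mem _ (inv_mem haL) hcL
      rwa [← show (a : G) * j = c from congrArg Subtype.val hajc, inv_mul_cancel_left] at h
    have hk : (⟨j, hjJ⟩ : ↥J) ∈ actJ.ker := (hact _).2 hjL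
    rw [hE'ker] at hk
    exact mem_subgroupOf.1 hk

theorem exists_frobenius_four [IsSimpleGroup G] (hG : ¬ IsMulCommutative G)
    (hJ : Cfsg.IsOfJankoFourTypeWith z P) (o : Outer z E P N e) :
    ∃ h : G, h ^ 4 = 1 ∧ h * (q5 R : G) * h⁻¹ = (q5 R : G) ^ 2 := by
  classical
  obtain ⟨h₀, -, hq₀⟩ := exists_frobenius_H R hG hJ o
  obtain ⟨hCL, hsurj, hker⟩ := line_action R hG hJ o
  have X := env R hG hJ o
  set q : G := (q5 R : G)
  set C := centralizer ((zpowers q : Subgroup G) : Set G)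
  set L := lineE R with hLdef
  have hL := line_iff R hG hJ o
  have hLC : ∀ l ∈ L, l ∈ C := fun l hl => ((hL l).1 hl).1
  have hqpow : ∀ g : G, g * q * g⁻¹ = q ^ 2 → ∀ x : G, (q * x = x * q ↔
      q * (g * x * g⁻¹) = g * x * g⁻¹ * q) := by
    intro g hg x
    have e : q = (q ^ 2) ^ 3 := by
      rw [← pow_mul, show 2 * 3 = 5 + 1 from rfl, pow_succ, q5_pow R, one_mul]
    refine ⟨fun hx => ?_, fun hx => ?_⟩
    · have h := conj_commute g hx
      rw [hg] at h
      conv_lhs => rw [e]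
      conv_rhs => rw [e]
      exact ((show Commute (q ^ 2) _ from h).pow_left 3).eq
    · refine (MulAut.conj g).injective ?_
      rw [map_mul, map_mul, MulAut.conj_apply, MulAut.conj_apply, hg]
      exact ((show Commute q _ from hx).pow_left 2).eq
  have hnormL : ∀ g : G, g * q * g⁻¹ = q ^ 2 → g ∈ normalizer (L : Set G) := by
    intro g hg
    refine mem_normalizer_iff.2 fun x => ?_
    rw [hL, hL, mem_cent_iff, mem_cent_iff, ← hqpow g hg x, conj_eq_one_iff]
    exact and_congr_right fun _ => or_congr_right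
      ⟨fun h => h.trans (isConj_iff.2 ⟨g, rfl⟩), fun h => h.trans (isConj_iff.2 ⟨g⁻¹, by group⟩)⟩
  let act : ↥(normalizer (L : Set G)) →* MulAut ↥L := L.normalizerMonoidHom
  have hact : ∀ g, act g = 1 ↔ (g : G) ∈ centralizer (L : Set G) := fun g => by
    rw [← MonoidHom.mem_ker, normalizerMonoidHom_ker]
    rfl
  obtain ⟨c, hc⟩ := hsurj (act ⟨h₀, hnormL h₀ hq₀⟩)
  set h₁ := (c : G)⁻¹ * h₀ with hh₁
  have hcq : (c : G)⁻¹ * q = q * (c : G)⁻¹ := ((mem_cent_iff R).1 (inv_mem c.2)).symm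
  have hq₁ : h₁ * q * h₁⁻¹ = q ^ 2 := by
    have e2 : (c : G)⁻¹ * q ^ 2 = q ^ 2 * (c : G)⁻¹ := (show Commute _ q from hcq).pow_right 2
    calc h₁ * q * h₁⁻¹ = (c : G)⁻¹ * (h₀ * q * h₀⁻¹) * c := by rw [hh₁]; group
      _ = q ^ 2 := by rw [hq₀, e2, inv_mul_cancel_right]
  have h₁L : h₁ ∈ centralizer (L : Set G) := by
    refine (hact ⟨h₁, hnormL h₁ hq₁⟩).1 ?_
    rw [show (⟨h₁, hnormL h₁ hq₁⟩ : ↥(normalizer (L : Set G))) =
      (inclusion hCL c)⁻¹ * ⟨h₀, hnormL h₀ hq₀⟩ from rfl, map_mul, map_inv,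
      show act (inclusion hCL c) = act ⟨h₀, hnormL h₀ hq₀⟩ from hc, inv_mul_cancel]
  have hpow : ∀ g : G, g * q * g⁻¹ = q ^ 2 → ∀ j : ℕ, g ^ j * q * (g ^ j)⁻¹ = q ^ 2 ^ j := by
    intro g hg j
    induction j with
    | zero => simp
    | succ j ih =>
      rw [pow_succ, show g ^ j * g * q * (g ^ j * g)⁻¹ =
        g ^ j * (g * q * g⁻¹) * (g ^ j)⁻¹ by group, hg, pow_succ 2 j, pow_mul, ← ih,
        ← MulAut.conj_apply, map_pow, MulAut.conj_apply]
  have hfour : h₁ ^ 4 ∈ C := by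
    refine (mem_cent_iff R).2 (mul_inv_eq_iff_eq_mul.1 ?_).symm
    rw [hpow h₁ hq₁, show 2 ^ 4 = 5 * 3 + 1 from rfl, pow_succ, pow_mul, q5_pow R, one_pow, one_mul]
  obtain ⟨a, ha, l, hl, hal⟩ := hker _ hfour (pow_mem h₁L 4)
  set h := h₁ ^ 5 with hh
  have hhq : h * q * h⁻¹ = q ^ 2 := by
    rw [hpow h₁ hq₁, show 2 ^ 5 = 5 * 6 + 2 from rfl, pow_add, pow_mul, q5_pow R, one_pow, one_mul]
  have hhL : h ∈ centralizer (L : Set G) := pow_mem h₁L 5
  have hv : h ^ 4 ∈ L := by
    rw [hh, ← pow_mul, show 5 * 4 = 4 * 5 from rfl, pow_mul, hal,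
      ((show Commute a l from mem_centralizer_iff.1 (hLC l hl) a ha).mul_pow 5)]
    obtain ⟨i, rfl⟩ := mem_zpowers_iff.1 ha
    rw [← zpow_natCast (q ^ i), ← zpow_mul, mul_comm, zpow_mul, zpow_natCast, q5_pow R, one_zpow,
      one_mul]
    exact pow_mem hl 5
  refine ⟨h, ?_, hhq⟩
  by_contra h1
  have hcard : Nat.card ↥L = 8 := card_lineE R
  have hv' : h ^ 4 ∈ L := hv
  -- another element of the line
  obtain ⟨v, hvL, hvne⟩ := Set.exists_mem_notMem_of_ncard_lt_ncard
    (s := ({1, h ^ 4} : Set G)) (t := (L : Set G)) (by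
      rw [← Nat.card_coe_set_eq (L : Set G)]
      refine lt_of_le_of_lt ((Set.ncard_insert_le _ _).trans (by rw [Set.ncard_singleton])) ?_
      show 2 < Nat.card ↥L
      omega) (Set.toFinite _)
  simp only [Set.mem_insert_iff, Set.mem_singleton_iff, not_or] at hvne
  obtain ⟨φ, hφ⟩ := H7.Fi24L.exists_swap (V := ↥L) (fun x => Subtype.ext (by
      rcases ((hL x).1 x.2).2 with h | h
      · show (x : G) * x = 1
        rw [h, one_mul]
      · exact X.zt_sq h)) hcard
    (u := ⟨h ^ 4, hv⟩) (v := ⟨v, hvL⟩) (fun e => h1 (congrArg Subtype.val e))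
    (fun e => hvne.1 (congrArg Subtype.val e))
  obtain ⟨g, hg⟩ := hsurj φ
  refine hvne.2 ?_
  have hgq : (g : G) * q * (g : G)⁻¹ = q :=
    mul_inv_eq_iff_eq_mul.2 ((mem_cent_iff R).1 g.2).symm
  have hgv : (g : G) * h ^ 4 * (g : G)⁻¹ = v := by
    have e := congrArg (fun f : MulAut ↥L => ((f ⟨h ^ 4, hv⟩ : ↥L) : G)) hg
    exact e.trans (congrArg Subtype.val hφ)
  set w := (g : G) * h * (g : G)⁻¹ * h⁻¹ with hw
  have hwC : w ∈ C := by
    refine (mem_cent_iff R).2 (mul_inv_eq_iff_eq_mul.1 ?_).symm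
    have hi : h⁻¹ * q ^ 2 * h = q := by
      rw [← hhq]; group
    have hi2 : h⁻¹ * q * h = q ^ 3 := by
      conv_lhs => rw [show q = (q ^ 2) ^ 3 by
        rw [← pow_mul, show 2 * 3 = 5 + 1 from rfl, pow_succ, q5_pow R, one_mul]]
      rw [show h⁻¹ * (q ^ 2) ^ 3 * h = (h⁻¹ * q ^ 2 * h) ^ 3 by
        rw [pow_succ, pow_two (q ^ 2), pow_succ (h⁻¹ * q ^ 2 * h), pow_two (h⁻¹ * q ^ 2 * h)]
        group, hi]
    calc w * q * w⁻¹ = (g : G) * h * ((g : G)⁻¹ * (h⁻¹ * q * h) * g) * h⁻¹ * (g : G)⁻¹ := by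
          rw [hw]; group
      _ = (g : G) * (h * q ^ 3 * h⁻¹) * (g : G)⁻¹ := by
          have e : Commute (g : G)⁻¹ (q ^ 3) :=
            (((show Commute q (g : G)⁻¹ from (mem_cent_iff R).1 (inv_mem g.2))).pow_left 3).symm
          rw [hi2, e.eq, inv_mul_cancel_right]
          group
      _ = (g : G) * q * (g : G)⁻¹ := by
          rw [← MulAut.conj_apply h, map_pow, MulAut.conj_apply, hhq, ← pow_mul,
            show 2 * 3 = 5 + 1 from rfl, pow_succ, q5_pow R, one_mul]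
      _ = q := hgq
  have hwL : w ∈ centralizer (L : Set G) := by
    refine Subgroup.mul_mem _ (mem_centralizer_iff.2 fun x hx => ?_) (inv_mem hhL)
    have hx' : (g : G)⁻¹ * x * g ∈ L := by
      have := (mem_normalizer_iff.1 (inv_mem (hCL g.2)) x).1 hx
      rwa [inv_inv] at this
    have := conj_commute (g : G) (mem_centralizer_iff.1 hhL _ hx')
    rwa [conj_conj_inv] at this
  obtain ⟨a', ha', l', hl', hal'⟩ := hker w hwC hwL
  obtain ⟨i, rfl⟩ := mem_zpowers_iff.1 ha'
  have hgh : (g : G) * h * (g : G)⁻¹ = l' * (q ^ i * h) := by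
    rw [show (g : G) * h * (g : G)⁻¹ = w * h by rw [hw]; group, hal',
      mem_centralizer_iff.1 (hLC l' hl') _ ha', mul_assoc]
  have hl'h : Commute l' (q ^ i * h) := by
    refine Commute.mul_right ?_ (mem_centralizer_iff.1 hhL l' hl')
    exact (mem_centralizer_iff.1 (hLC l' hl') _ ha').symm
  have hl4 : l' ^ 4 = 1 := by
    rw [show 4 = 2 * 2 from rfl, pow_mul, pow_two l']
    rcases ((hL l').1 hl').2 with h | h
    · rw [h, one_mul, one_pow]
    · rw [X.zt_sq h, one_pow]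
  have hconj : ∀ k : ℤ, h * q ^ k * h⁻¹ = q ^ (2 * k) := fun k => by
    rw [← MulAut.conj_apply, map_zpow, MulAut.conj_apply, hhq, ← zpow_natCast, ← zpow_mul]
    rfl
  have hsw : ∀ k : ℤ, h * q ^ k = q ^ (2 * k) * h := fun k => by rw [← hconj, inv_mul_cancel_right]
  have hp : (q ^ i * h) ^ 4 = h ^ 4 := by
    have e2 : (q ^ i * h) ^ 2 = q ^ (3 * i) * h ^ 2 := by
      rw [pow_two, pow_two, show q ^ i * h * (q ^ i * h) = q ^ i * (h * q ^ i) * h by group, hsw,
        ← mul_assoc, ← zpow_add, mul_assoc]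
      congr 2
      ring
    rw [show 4 = 2 * 2 from rfl, pow_mul, e2, pow_two, pow_mul, pow_two (h ^ 2),
      show q ^ (3 * i) * h ^ 2 * (q ^ (3 * i) * h ^ 2) =
        q ^ (3 * i) * (h * (h * q ^ (3 * i))) * h ^ 2 by rw [pow_two]; group, hsw,
      ← mul_assoc h, hsw, ← mul_assoc, ← mul_assoc, ← zpow_add,
      show 3 * i + 2 * (2 * (3 * i)) = ((5 : ℕ) : ℤ) * (3 * i) by push_cast; ring, zpow_mul,
      zpow_natCast, q5_pow R, one_zpow, one_mul, pow_two h]
  rw [← hgv, ← MulAut.conj_apply, map_pow, MulAut.conj_apply, hgh, hl'h.mul_pow, hl4, one_mul, hp]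

theorem normalizer_part [IsSimpleGroup G] (hG : ¬ IsMulCommutative G)
    (hJ : Cfsg.IsOfJankoFourTypeWith z P) (o : Outer z E P N e) :
    (∃ R' : Subgroup G, (zpowers (q5 R : G)) ≤ R' ∧ R' ≤ Subgroup.normalizer ((zpowers (q5 R : G) : Subgroup G) : Set G) ∧ Nat.card ↥R' = 20 ∧
      R' ⊓ Subgroup.centralizer ((zpowers (q5 R : G) : Subgroup G) : Set G) = (zpowers (q5 R : G))) ∧
    Nat.card ↥(Subgroup.normalizer ((zpowers (q5 R : G) : Subgroup G) : Set G)) = 2 ^ 8 * 3 * 5 * 7 := by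
  classical
  haveI : Fact (Nat.Prime 2) := ⟨Nat.prime_two⟩
  obtain ⟨h, h4, hhq⟩ := exists_frobenius_four R hG hJ o
  set q : G := (q5 R : G)
  set C := centralizer ((zpowers q : Subgroup G) : Set G)
  set N' := normalizer ((zpowers q : Subgroup G) : Set G)
  have hCN : C ≤ N' := centralizer_le_normalizer _
  have hmap : (zpowers q).map (MulAut.conj h).toMonoidHom = zpowers q := by
    refine Subgroup.eq_of_le_of_card_ge ?_ (by rw [card_map_conj])
    rw [MonoidHom.map_zpowers, zpowers_le]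
    show h * q * h⁻¹ ∈ zpowers q
    rw [hhq]
    exact pow_mem (mem_zpowers q) 2
  have hhN : h ∈ N' := by
    refine mem_normalizer_iff.2 fun x => ?_
    nth_rw 2 [← hmap]
    rw [mem_map_conj, conj_inv_conj]
  set φ := (zpowers q).normalizerMonoidHom with hφ
  set hn : ↥N' := ⟨h, hhN⟩
  have ha : orderOf (φ hn) = 4 := by
    refine orderOf_eq_prime_pow (p := 2) (n := 1) (fun he => ?_) ?_
    · have h2 : h * (h * q * h⁻¹) * h⁻¹ = q := by
        have he' := congrArg Subtype.val (DFunLike.congr_fun he ⟨q, mem_zpowers q⟩)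
        rw [pow_one, ← map_pow] at he'
        calc h * (h * q * h⁻¹) * h⁻¹ = h ^ 2 * q * (h ^ 2)⁻¹ := by rw [pow_two]; group
          _ = q := he'
      rw [hhq, ← MulAut.conj_apply, map_pow, MulAut.conj_apply, hhq, ← pow_mul] at h2
      have h3 : q ^ 3 = 1 := mul_right_cancel (b := q) (by
        rw [← pow_succ, one_mul]; exact h2)
      have := orderOf_dvd_of_pow_eq_one h3
      rw [orderOf_q5] at this
      norm_num at this
    · rw [show 2 ^ (1 + 1) = 4 from rfl, ← map_pow, show hn ^ 4 = 1 from Subtype.ext h4, map_one]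
  have hrange : Nat.card φ.range = 4 := by
    refine le_antisymm ?_ (Nat.le_of_dvd Nat.card_pos (ha ▸ orderOf_dvd_natCard _ ⟨hn, rfl⟩))
    let f : ↥φ.range → {x : ↥(zpowers q) // x ≠ 1} := fun a =>
      ⟨a.1 ⟨q, mem_zpowers q⟩, fun he => q5_ne R (congrArg Subtype.val
        (a.1.map_eq_one_iff.1 he))⟩
    have hf : Function.Injective f := by
      intro a b hab
      refine Subtype.ext (DFunLike.ext _ _ fun x => ?_)
      obtain ⟨i, hi⟩ := mem_zpowers_iff.1 x.2
      rw [show x = (⟨q, mem_zpowers q⟩ : ↥(zpowers q)) ^ i from Subtype.ext hi.symm, map_zpow,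
        map_zpow, show a.1 ⟨q, mem_zpowers q⟩ = b.1 ⟨q, mem_zpowers q⟩ from congrArg Subtype.val hab]
    haveI := Fintype.ofFinite ↥(zpowers q)
    refine (Nat.card_le_card_of_injective f hf).trans (le_of_eq ?_)
    rw [Nat.card_eq_fintype_card, Fintype.card_subtype_compl, Fintype.card_subtype_eq,
      ← Nat.card_eq_fintype_card, show Nat.card ↥(zpowers q) = 5 from card_zpowers_q5 R]
  refine ⟨⟨zpowers q ⊔ zpowers h, le_sup_left, sup_le le_normalizer (zpowers_le.2 hhN), ?_⟩, ?_⟩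
  · set T := zpowers q ⊔ zpowers h with hT
    have hTN : T ≤ N' := sup_le le_normalizer (zpowers_le.2 hhN)
    have hqC : zpowers q ≤ C := zpowers_le.2 ((mem_cent_iff R).2 rfl)
    have hinf : T ⊓ C = zpowers q := by
      refine le_antisymm ?_ (le_inf le_sup_left hqC)
      rintro x ⟨hx, hxC⟩
      replace hx : x ∈ ((zpowers h ⊔ zpowers q : Subgroup G) : Set G) := by
        rw [sup_comm]
        exact hx
      rw [coe_mul_of_left_le_normalizer_right (zpowers h) (zpowers q) (zpowers_le.2 hhN)] at hx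
      obtain ⟨a, ha', b, hb, rfl⟩ := Set.mem_mul.1 hx
      obtain ⟨i, rfl⟩ := mem_zpowers_iff.1 ha'
      have hiC : h ^ i ∈ C := by
        have := C.mul_mem hxC (C.inv_mem (hqC hb))
        rwa [mul_inv_cancel_right] at this
      have h1 : φ hn ^ i = 1 := by
        rw [← map_zpow, ← MonoidHom.mem_ker, hφ, normalizerMonoidHom_ker]
        exact hiC
      obtain ⟨j, hj⟩ := orderOf_dvd_iff_zpow_eq_one.2 h1
      rw [ha] at hj
      rw [hj, zpow_mul, show ((4 : ℕ) : ℤ) = 4 from rfl, zpow_ofNat, h4, one_zpow, one_mul]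
      exact hb
    refine ⟨?_, hinf⟩
    let ψ := φ.comp (inclusion hTN)
    have hk : Nat.card ψ.ker = 5 := by
      refine Eq.trans ?_ ((congrArg (fun A : Subgroup G => Nat.card A) hinf).trans (card_zpowers_q5 R))
      refine Nat.card_congr ⟨fun x => ⟨x.1.1, x.1.2, ?_⟩, fun y => ⟨⟨y.1, y.2.1⟩, ?_⟩,
        fun _ => rfl, fun _ => rfl⟩
      · have := x.2
        rw [MonoidHom.mem_ker, MonoidHom.comp_apply, ← MonoidHom.mem_ker, hφ,
          normalizerMonoidHom_ker] at this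
        exact this
      · rw [MonoidHom.mem_ker, MonoidHom.comp_apply, ← MonoidHom.mem_ker, hφ,
          normalizerMonoidHom_ker]
        exact y.2.2
    have h4T : Nat.card ψ.range = 4 := by
      refine le_antisymm (hrange ▸ Subgroup.card_le_of_le (by rintro _ ⟨x, rfl⟩; exact ⟨_, rfl⟩))
        (Nat.le_of_dvd Nat.card_pos (ha ▸ orderOf_dvd_natCard _ ⟨⟨h, mem_sup_right (mem_zpowers h)⟩, rfl⟩))
    have := ψ.ker.card_mul_index
    rw [index_ker, hk, h4T] at this
    exact this.symm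
  · have := φ.ker.card_mul_index
    rw [index_ker, hrange, hφ, normalizerMonoidHom_ker,
      Nat.card_congr (subgroupOfEquivOfLe hCN).toEquiv, (env R hG hJ o).card_centralizer] at this
    rw [← this]
    norm_num

/-- The statement for every subgroup of order five of `H`. -/
theorem five_statement [IsSimpleGroup G] (hG : ¬ IsMulCommutative G)
    (hJ : Cfsg.IsOfJankoFourTypeAt z) (Q : Subgroup G) (hQ : Nat.card Q = 5)
    (hQz : Q ≤ centralizer ({z} : Set G)) : ¬ 25 ∣ Nat.card G ∧ Conclusion Q := by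
  haveI : Fact (Nat.Prime 5) := ⟨by norm_num⟩
  obtain ⟨P, hP⟩ := hJ
  obtain ⟨N, e, o⟩ := outer_of_type hP
  obtain ⟨R⟩ := exists_real o (data_of_type hP)
  obtain ⟨q, hq⟩ := exists_prime_orderOf_dvd_card' (G := ↥Q) 5 (hQ ▸ dvd_rfl)
  rw [← Subgroup.orderOf_coe] at hq
  obtain ⟨k, -, hk⟩ := conj_five R hP (hQz q.2) hq
  refine ⟨not_25 R hG hP o, ?_⟩
  have hQe : zpowers (q : G) = Q :=
    eq_of_le_of_card_ge (zpowers_le.2 q.2) (by rw [hQ, Nat.card_zpowers, hq])
  have hmap : Q = (zpowers (q5 R : G)).map (MulAut.conj k⁻¹).toMonoidHom := by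
    rw [← hk, MonoidHom.map_zpowers]
    refine hQe.symm.trans (congrArg zpowers ?_)
    simp [mul_assoc]
  rw [hmap]
  refine Conclusion.map ?_ _
  exact ⟨centralizer_part R hG hP o, normalizer_part R hG hP o⟩

end H95.J4Five
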