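import Cfsg.Agent.H95.J4Five.Abstract

/-!
# Conjugating local data
-/

set_option autoImplicit false

open Subgroup

namespace H95.J4Five

variable {G : Type*} [Group G]

theorem conj_inv_conj (g x : G) : g⁻¹ * (g * x * g⁻¹) * g = x := by group

theorem conj_conj_inv (g x : G) : g * (g⁻¹ * x * g) * g⁻¹ = x := by group

theorem twoCore_le_conj (g c : G) :
    (Cfsg.twoCoreOfCentralizer c).map (MulAut.conj g).toMonoidHom =
      Cfsg.twoCoreOfCentralizer (g * c * g⁻¹) := by
  let eC : ↥(centralizer ({c} : Set G)) ≃* ↥(centralizer ({g * c * g⁻¹} : Set G)) :=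
    { toFun := fun x => ⟨g * x * g⁻¹, mem_centralizer_singleton_iff.2 (by
        have h : (x : G) * c = c * x := mem_centralizer_singleton_iff.1 x.2
        calc g * x * g⁻¹ * (g * c * g⁻¹) = g * (x * c) * g⁻¹ := by group
          _ = _ := by rw [h]; group)⟩
      invFun := fun y => ⟨g⁻¹ * y * g, mem_centralizer_singleton_iff.2 (by
        have h : (y : G) * (g * c * g⁻¹) = g * c * g⁻¹ * y := mem_centralizer_singleton_iff.1 y.2
        calc g⁻¹ * y * g * c = g⁻¹ * ((y : G) * (g * c * g⁻¹)) * g := by group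
          _ = _ := by rw [h]; group)⟩
      left_inv := fun x => Subtype.ext (conj_inv_conj g x)
      right_inv := fun y => Subtype.ext (conj_conj_inv g y)
      map_mul' := fun a b => Subtype.ext (by
        show g * ((a : G) * b) * g⁻¹ = g * a * g⁻¹ * (g * b * g⁻¹)
        group) }
  rw [Cfsg.twoCoreOfCentralizer, Cfsg.twoCoreOfCentralizer, ← H1.map_pCore_equiv 2 eC,
    Subgroup.map_map, Subgroup.map_map]
  rfl

theorem conj_mem_cent {Q : Subgroup G} {g : G} (hg : g ∈ centralizer (Q : Set G)) {x : G} :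
    g * x * g⁻¹ ∈ centralizer (Q : Set G) ↔ x ∈ centralizer (Q : Set G) :=
  ⟨fun h => by
    have h' := mul_mem (mul_mem (inv_mem hg) h) hg
    rwa [conj_inv_conj] at h', fun h => mul_mem (mul_mem hg h) (inv_mem hg)⟩

theorem mem_core_conj {Q : Subgroup G} {g c x : G} (hg : g ∈ centralizer (Q : Set G)) :
    g * x * g⁻¹ ∈ core Q (g * c * g⁻¹) ↔ x ∈ core Q c := by
  rw [core, core, mem_inf, mem_inf, conj_mem_cent hg, ← twoCore_le_conj g c]
  refine and_congr_left fun _ => ?_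
  exact Subgroup.mem_map_iff_mem (f := (MulAut.conj g).toMonoidHom) (MulAut.conj g).injective

theorem mem_centS_conj {Q : Subgroup G} {g c x : G} (hg : g ∈ centralizer (Q : Set G)) :
    g * x * g⁻¹ ∈ cent Q (g * c * g⁻¹) ↔ x ∈ cent Q c := by
  rw [cent, cent, mem_inf, mem_inf, conj_mem_cent hg, mem_centralizer_singleton_iff,
    mem_centralizer_singleton_iff]
  refine and_congr_left fun _ => ?_
  rw [← (MulAut.conj g).injective.eq_iff (a := x * c), map_mul, map_mul]
  rfl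

theorem mem_map_conj {K : Subgroup G} {g y : G} :
    y ∈ K.map (MulAut.conj g).toMonoidHom ↔ g⁻¹ * y * g ∈ K := by
  refine ⟨?_, fun h => ⟨_, h, conj_conj_inv g y⟩⟩
  rintro ⟨x, hx, rfl⟩
  show g⁻¹ * (g * x * g⁻¹) * g ∈ K
  rwa [conj_inv_conj]

theorem card_map_conj (K : Subgroup G) (g : G) :
    Nat.card ↥(K.map (MulAut.conj g).toMonoidHom) = Nat.card K :=
  (Nat.card_congr (K.equivMapOfInjective _ (MulAut.conj g).injective).toEquiv).symm

theorem elementary_conj {V : Subgroup G} (g : G) (hV : Cfsg.IsElementaryAbelian 2 V) :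
    Cfsg.IsElementaryAbelian 2 (V.map (MulAut.conj g).toMonoidHom) := by
  obtain ⟨⟨⟨hc⟩⟩, he⟩ := hV
  refine ⟨⟨⟨?_⟩⟩, ?_⟩
  · rintro ⟨_, u, hu, rfl⟩ ⟨_, v, hv, rfl⟩
    refine Subtype.ext ?_
    show (MulAut.conj g).toMonoidHom u * (MulAut.conj g).toMonoidHom v = _ * _
    rw [← map_mul, ← map_mul]
    exact congrArg _ (congrArg Subtype.val (hc ⟨u, hu⟩ ⟨v, hv⟩))
  · rintro _ ⟨u, hu, rfl⟩
    rw [← map_pow, he u hu, map_one]

/-- Local data are carried along by the centralizer of `Q`. -/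
theorem Local.conj {z : G} {Q : Subgroup G} {c g : G} (L : Local z Q c)
    (hg : g ∈ centralizer (Q : Set G)) : Local z Q (g * c * g⁻¹) := by
  have hconjz : ∀ x, IsConj z (g * x * g⁻¹) ↔ IsConj z x := fun x =>
    ⟨fun h => h.trans (isConj_iff.2 ⟨g⁻¹, by group⟩), fun h => h.trans (isConj_iff.2 ⟨g, rfl⟩)⟩
  have hsq : ∀ x, g * x * g⁻¹ * (g * x * g⁻¹) = g * (x * x) * g⁻¹ := fun x => by group
  have hsurj : ∀ y : G, ∃ x, y = g * x * g⁻¹ := fun y => ⟨g⁻¹ * y * g, (conj_conj_inv g y).symm⟩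
  have hcore : core Q (g * c * g⁻¹) = (core Q c).map (MulAut.conj g).toMonoidHom := by
    ext y
    obtain ⟨x, rfl⟩ := hsurj y
    rw [mem_core_conj hg, mem_map_conj, conj_inv_conj]
  have hcent : cent Q (g * c * g⁻¹) = (cent Q c).map (MulAut.conj g).toMonoidHom := by
    ext y
    obtain ⟨x, rfl⟩ := hsurj y
    rw [mem_centS_conj hg, mem_map_conj, conj_inv_conj]
  refine ⟨by rw [hcent, card_map_conj, L.card_cent], by rw [hcore, card_map_conj, L.card_core],
    (mem_core_conj hg).2 L.mem_core, ?_, ?_, ?_, ?_, ?_, ?_⟩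
  · intro y hy
    obtain ⟨x, rfl⟩ := hsurj y
    rw [hsq]
    refine (L.sq x ((mem_core_conj hg).1 hy)).imp (fun h => by rw [h]; group) (fun h => by rw [h])
  · intro y hy hc
    obtain ⟨x, rfl⟩ := hsurj y
    refine (L.centre x ((mem_core_conj hg).1 hy) fun w hw => ?_).imp
      (fun h => by rw [h]; group) (fun h => by rw [h])
    have h := hc _ ((mem_core_conj hg).2 hw)
    refine (MulAut.conj g).injective ?_
    rw [map_mul, map_mul]
    exact h
  · obtain ⟨M, hM, hMc, hMcore⟩ := L.inner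
    refine ⟨M.map (MulAut.conj g).toMonoidHom, hcent ▸ Subgroup.map_mono hM,
      by rw [card_map_conj, hMc], ?_⟩
    intro y hy h2
    obtain ⟨x, rfl⟩ := hsurj y
    rw [mem_map_conj, conj_inv_conj] at hy
    rw [hsq, conj_eq_one_iff] at h2
    exact (mem_core_conj hg).2 (hMcore x hy h2)
  · obtain ⟨K, hK, hmem⟩ := L.line
    refine ⟨K.map (MulAut.conj g).toMonoidHom, by rw [card_map_conj, hK], fun y => ?_⟩
    obtain ⟨x, rfl⟩ := hsurj y
    rw [mem_map_conj, conj_inv_conj, hmem, mem_core_conj hg, hconjz, conj_eq_one_iff]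
  · intro V hV hVc hcV y hy hyQ
    obtain ⟨x, rfl⟩ := hsurj y
    refine (mem_core_conj hg).2 (L.inV (V.map (MulAut.conj g⁻¹).toMonoidHom) (elementary_conj _ hV)
      (by rw [card_map_conj, hVc]) ⟨_, hcV, by simp [mul_assoc]⟩ x ⟨_, hy, by simp [mul_assoc]⟩
      ((conj_mem_cent hg).1 hyQ))
  · intro y hy h2
    obtain ⟨x, rfl⟩ := hsurj y
    rw [hsq, conj_eq_one_iff] at h2
    obtain ⟨V, hV, hVc, hcV, hxV⟩ := L.toV x ((mem_core_conj hg).1 hy) h2
    exact ⟨V.map (MulAut.conj g).toMonoidHom, elementary_conj g hV, by rw [card_map_conj, hVc],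
      ⟨c, hcV, rfl⟩, ⟨x, hxV, rfl⟩⟩

end H95.J4Five
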