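import Mathlib
import Cfsg.Prelude.Def_JankoFourType
import Cfsg.Agent.H1.Cores
import Cfsg.Agent.H95.J4T.Main

/-!
# The conjugates of `z` in the centralizer of an element of order five

From local data at each conjugate of `z` in `C(Q)`, and the centralizers of the other
involutions, the conjugates of `z` in `C(Q)` form one elementary subgroup of order eight.
-/

set_option autoImplicit false
set_option linter.unusedSectionVars false

open Subgroup

namespace H95.J4Five

variable {G : Type*} [Group G]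

/-- The two-core of the centralizer of `c`, cut down to the centralizer of `Q`. -/
def core (Q : Subgroup G) (c : G) : Subgroup G :=
  Cfsg.twoCoreOfCentralizer c ⊓ centralizer (Q : Set G)

/-- The centralizer of `c` and `Q`. -/
def cent (Q : Subgroup G) (c : G) : Subgroup G :=
  centralizer ({c} : Set G) ⊓ centralizer (Q : Set G)

/-- The local data at a conjugate `c` of `z` centralizing `Q`. -/
structure Local (z : G) (Q : Subgroup G) (c : G) : Prop where
  card_cent : Nat.card (cent Q c) = 960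
  card_core : Nat.card (core Q c) = 32
  mem_core : c ∈ core Q c
  sq : ∀ x ∈ core Q c, x * x = 1 ∨ x * x = c
  centre : ∀ x ∈ core Q c, (∀ y ∈ core Q c, x * y = y * x) → x = 1 ∨ x = c
  inner : ∃ M : Subgroup G, M ≤ cent Q c ∧ Nat.card M = 480 ∧ ∀ x ∈ M, x * x = 1 → x ∈ core Q c
  line : ∃ L : Subgroup G, Nat.card L = 8 ∧ ∀ x, x ∈ L ↔ x ∈ core Q c ∧ (x = 1 ∨ IsConj z x)
  inV : ∀ V : Subgroup G, Cfsg.IsElementaryAbelian 2 V → Nat.card V = 2 ^ 11 → c ∈ V →
    ∀ x ∈ V, x ∈ centralizer (Q : Set G) → x ∈ core Q c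
  toV : ∀ x ∈ core Q c, x * x = 1 → ∃ V : Subgroup G, Cfsg.IsElementaryAbelian 2 V ∧
    Nat.card V = 2 ^ 11 ∧ c ∈ V ∧ x ∈ V

/-- The global hypotheses. -/
structure Env (z : G) (Q : Subgroup G) : Prop where
  z_sq : z * z = 1
  z_ne : z ≠ 1
  z_cent : z ∈ centralizer (Q : Set G)
  loc : ∀ c, IsConj z c → c ∈ centralizer (Q : Set G) → Local z Q c
  fus : ∀ c, IsConj z c → c ∈ centralizer (Q : Set G) →
    ∃ g ∈ centralizer (Q : Set G), g * z * g⁻¹ = c
  uniqV : ∀ V W : Subgroup G, Cfsg.IsElementaryAbelian 2 V → Nat.card V = 2 ^ 11 →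
    Cfsg.IsElementaryAbelian 2 W → Nat.card W = 2 ^ 11 → W ≤ normalizer (V : Set G) → W = V
  uniqZ : ∀ V : Subgroup G, Cfsg.IsElementaryAbelian 2 V → Nat.card V = 2 ^ 11 →
    Q ≤ normalizer (V : Set G) → ∀ c ∈ V, ∀ d ∈ V, c ∈ centralizer (Q : Set G) →
      d ∈ centralizer (Q : Set G) → IsConj z c → IsConj z d → c = d
  centV : ∀ V : Subgroup G, Cfsg.IsElementaryAbelian 2 V → Nat.card V = 2 ^ 11 → ∀ s ∈ V,
    s ≠ 1 → ¬ IsConj z s → centralizer ({s} : Set G) ≤ normalizer (V : Set G)
  odd : ∀ s x r : G, s ∈ centralizer (Q : Set G) → x ∈ centralizer (Q : Set G) →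
    r ∈ centralizer (Q : Set G) → s * s = 1 → s ≠ 1 → ¬ IsConj z s → x * x = 1 →
    Commute x s → Commute r s → Odd (orderOf r) → x * r * x⁻¹ = r⁻¹ → r = 1
  other : ∃ t ∈ core Q z, t * t = 1 ∧ t ≠ 1 ∧ ¬ IsConj z t

namespace Env

variable {z : G} {Q : Subgroup G} [Finite G] (X : Env z Q)
include X

/-- The conjugates of `z` in the centralizer of `Q`. -/
def Zt (z : G) (Q : Subgroup G) (c : G) : Prop := IsConj z c ∧ c ∈ centralizer (Q : Set G)

theorem zt_sq {c : G} (hc : IsConj z c) : c * c = 1 := by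
  obtain ⟨g, rfl⟩ := isConj_iff.1 hc
  calc g * z * g⁻¹ * (g * z * g⁻¹) = g * (z * z) * g⁻¹ := by group
    _ = 1 := by rw [X.z_sq]; group

theorem zt_ne {c : G} (hc : IsConj z c) : c ≠ 1 := fun h => by
  subst h
  exact X.z_ne (isConj_one_left.1 hc)

theorem core_le_cent (c : G) : core Q c ≤ cent Q c :=
  inf_le_inf_right _ (Subgroup.map_subtype_le _)

theorem core_conj {c g x : G} (hg : g ∈ cent Q c) (hx : x ∈ core Q c) :
    g * x * g⁻¹ ∈ core Q c := by
  obtain ⟨⟨y, hy, rfl⟩, hxQ⟩ := hx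
  refine ⟨⟨(⟨g, hg.1⟩ : ↥(centralizer ({c} : Set G))) * y * ⟨g, hg.1⟩⁻¹, ?_, rfl⟩,
    mul_mem (mul_mem hg.2 hxQ) ((centralizer (Q : Set G)).inv_mem hg.2)⟩
  exact (H1.pCore_normal' 2 _).conj_mem y hy _

/-- A non-conjugate of `z` lies in the core of at most one conjugate. -/
theorem centre_unique {c d s : G} (hc : Zt z Q c) (hd : Zt z Q d) (hs : s ∈ core Q c)
    (hs' : s ∈ core Q d) (h2 : s * s = 1) (h1 : s ≠ 1) (hsz : ¬ IsConj z s) : c = d := by
  obtain ⟨V, hV, hVc, hcV, hsV⟩ := (X.loc c hc.1 hc.2).toV s hs h2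
  obtain ⟨W, hW, hWc, hdW, hsW⟩ := (X.loc d hd.1 hd.2).toV s hs' h2
  have hle : W ≤ normalizer (V : Set G) := fun w hw => by
    refine X.centV V hV hVc s hsV h1 hsz (mem_centralizer_singleton_iff.2 ?_)
    exact congrArg Subtype.val (hW.1.1.1 ⟨w, hw⟩ ⟨s, hsW⟩)
  have hWV := X.uniqV V W hV hVc hW hWc hle
  subst hWV
  refine X.uniqZ W hW hWc ?_ c hcV d hdW hc.2 hd.2 hc.1 hd.1
  intro q hq
  exact X.centV W hW hWc s hsV h1 hsz
    (mem_centralizer_singleton_iff.2 (mem_centralizer_iff.1 hs.2 q hq))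

/-- The conjugates of `z` in the core, with one. -/
def line (z : G) (Q : Subgroup G) (c : G) : Set G := {x | x ∈ core Q c ∧ (x = 1 ∨ IsConj z x)}

theorem line_card {c : G} (hc : Zt z Q c) : (line z Q c).ncard = 8 := by
  obtain ⟨L, hL, hmem⟩ := (X.loc c hc.1 hc.2).line
  rw [← hL, ← Nat.card_coe_set_eq]
  exact Nat.card_congr (Equiv.subtypeEquivRight fun x => (hmem x).symm)

theorem line_mul {c : G} (hc : Zt z Q c) {x y : G} (hx : x ∈ line z Q c) (hy : y ∈ line z Q c) :
    x * y ∈ line z Q c := by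
  obtain ⟨L, hL, hmem⟩ := (X.loc c hc.1 hc.2).line
  exact (hmem _).1 (mul_mem ((hmem x).2 hx) ((hmem y).2 hy))

theorem line_self {c : G} (hc : Zt z Q c) : c ∈ line z Q c :=
  ⟨(X.loc c hc.1 hc.2).mem_core, Or.inr hc.1⟩

theorem line_sq {c x : G} (hx : x ∈ line z Q c) : x * x = 1 := by
  rcases hx.2 with rfl | h
  · exact one_mul 1
  · exact X.zt_sq h

theorem line_comm {c : G} (hc : Zt z Q c) {x y : G} (hx : x ∈ line z Q c)
    (hy : y ∈ line z Q c) : x * y = y * x := by
  have h := X.line_sq (X.line_mul hc hx hy)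
  rw [← inv_eq_of_mul_eq_one_right h, mul_inv_rev, inv_eq_of_mul_eq_one_right (X.line_sq hx),
    inv_eq_of_mul_eq_one_right (X.line_sq hy)]

theorem line_symm {c e : G} (hc : Zt z Q c) (he : e ∈ line z Q c) (h1 : e ≠ 1) :
    Zt z Q e ∧ c ∈ core Q e := by
  have hez : IsConj z e := he.2.resolve_left h1
  refine ⟨⟨hez, he.1.2⟩, ?_⟩
  obtain ⟨V, hV, hVc, hcV, heV⟩ := (X.loc c hc.1 hc.2).toV e he.1 (X.zt_sq hez)
  exact (X.loc e hez he.1.2).inV V hV hVc heV c hcV hc.2

theorem half {c e : G} (hc : Zt z Q c) (he : e ∈ core Q c) (he2 : e * e = 1) :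
    16 ≤ Nat.card ↥(core Q c ⊓ centralizer ({e} : Set G)) := by
  classical
  have hL := X.loc c hc.1 hc.2
  have hval : ∀ x ∈ core Q c, x * e * x⁻¹ = e ∨ x * e * x⁻¹ = c * e := by
    intro x hx
    have hxe : x * e * x⁻¹ = (x * e) * (x * e) * (x * x)⁻¹ * e := by
      have hcx : Commute (x * x)⁻¹ e := by
        rcases hL.sq x hx with h | h
        · rw [h, inv_one]; exact Commute.one_left e
        · rw [h]
          exact (show Commute c e from
            (mem_centralizer_singleton_iff.1 (X.core_le_cent c he).1).symm).inv_left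
      calc x * e * x⁻¹ = x * e * x * (x * x)⁻¹ := by group
        _ = x * e * x * ((x * x)⁻¹ * (e * e)) := by rw [he2, mul_one]
        _ = x * e * x * (e * (x * x)⁻¹ * e) := by rw [← mul_assoc (x * x)⁻¹, hcx.eq]
        _ = _ := by group
    rcases hL.sq _ (mul_mem hx he) with h | h <;> rcases hL.sq x hx with h' | h' <;>
      rw [hxe, h, h']
    · left; simp
    · right; rw [inv_eq_of_mul_eq_one_right (X.zt_sq hc.1)]; simp
    · right; simp
    · left; simp
  set A := core Q c ⊓ centralizer ({e} : Set G) with hA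
  by_cases hall : core Q c ≤ centralizer ({e} : Set G)
  · rw [show A = core Q c from inf_eq_left.2 hall, hL.card_core]; norm_num
  obtain ⟨x0, hx0, hx0e⟩ := SetLike.not_le_iff_exists.1 hall
  have hmove : ∀ x ∈ core Q c, x ∉ centralizer ({e} : Set G) → x * e * x⁻¹ = c * e := by
    intro x hx hxe
    rcases hval x hx with h | h
    · exact absurd (mem_centralizer_singleton_iff.2 (mul_inv_eq_iff_eq_mul.1 h)) hxe
    · exact h
  let f : core Q c → A × Bool := fun x =>
    if h : (x : G) ∈ centralizer ({e} : Set G) then (⟨x, x.2, h⟩, false)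
    else (⟨x0⁻¹ * x, (core Q c).mul_mem ((core Q c).inv_mem hx0) x.2, by
      refine mem_centralizer_singleton_iff.2 ?_
      have h1 := hmove x x.2 h
      rw [← hmove x0 hx0 hx0e] at h1
      calc x0⁻¹ * (x : G) * e = x0⁻¹ * ((x : G) * e * (x : G)⁻¹) * x := by group
        _ = e * (x0⁻¹ * x) := by rw [h1]; group⟩, true)
  have hinj : Function.Injective f := fun m n e' => by
    by_cases h1 : (m : G) ∈ centralizer ({e} : Set G) <;>
      by_cases h2 : (n : G) ∈ centralizer ({e} : Set G) <;> simp [f, h1, h2] at e'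
    · exact Subtype.ext (congrArg Subtype.val e' :)
    · exact Subtype.ext (mul_left_cancel (congrArg Subtype.val e' :))
  have := Nat.card_le_card_of_injective f hinj
  rw [Nat.card_prod, hL.card_core, Nat.card_eq_fintype_card (α := Bool), Fintype.card_bool] at this
  omega

/-- Two commuting conjugates in one line have the same line. -/
theorem line_eq {c e : G} (hc : Zt z Q c) (he : e ∈ line z Q c) (h1 : e ≠ 1) :
    line z Q e = line z Q c := by
  classical
  rcases eq_or_ne e c with rfl | hec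
  · rfl
  obtain ⟨hez, hce⟩ := X.line_symm hc he h1
  haveI : Fact (Nat.Prime 2) := ⟨Nat.prime_two⟩
  set A := core Q c ⊓ centralizer ({e} : Set G)
  set B := core Q e ⊓ centralizer ({c} : Set G)
  have hA : 16 ≤ Nat.card A := X.half hc he.1 (X.line_sq he)
  have hB : 16 ≤ Nat.card B := X.half hez hce (X.zt_sq hc.1)
  have hAB : A ≤ normalizer (B : Set G) := by
    intro a ha
    refine mem_normalizer_fintype fun b hb => ?_
    obtain ⟨hb1, hb2⟩ := hb
    have hac := (X.core_le_cent c ha.1).1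
    exact ⟨X.core_conj ⟨ha.2, ha.1.2⟩ hb1, mul_mem (mul_mem hac hb2)
      ((centralizer ({c} : Set G)).inv_mem hac)⟩
  have hpc : ∀ c, IsPGroup 2 ↥(core Q c) := fun c =>
    ((H1.isPGroup_pCore 2 ↥(centralizer ({c} : Set G))).map _).to_le inf_le_left
  have hp : IsPGroup 2 ↥(A ⊔ B) :=
    IsPGroup.to_sup_of_normal_right' ((hpc c).to_le inf_le_left) ((hpc e).to_le inf_le_left) hAB
  have hle : A ⊔ B ≤ cent Q c ⊓ centralizer ({e} : Set G) := sup_le
    (fun a ha => ⟨X.core_le_cent c ha.1, ha.2⟩)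
    (fun b hb => ⟨⟨hb.2, hb.1.2⟩, (X.core_le_cent e hb.1).1⟩)
  obtain ⟨k, hk⟩ := IsPGroup.iff_card.1 hp
  have hk5 : k ≤ 5 := by
    by_contra hk6
    push Not at hk6
    have hnorm : A ⊔ B ≤ normalizer (core Q c : Set G) := fun g hg =>
      mem_normalizer_fintype fun x hx => X.core_conj (hle hg).1 hx
    have hp' := IsPGroup.to_sup_of_normal_right' hp (hpc c) hnorm
    obtain ⟨j, hj⟩ := IsPGroup.iff_card.1 hp'
    have hdvd : Nat.card ↥(A ⊔ B ⊔ core Q c) ∣ 960 :=
      (X.loc c hc.1 hc.2).card_cent ▸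
        card_dvd_of_le (sup_le (hle.trans inf_le_left) (X.core_le_cent c))
    have hj6 : j ≤ 6 := by
      rw [hj] at hdvd
      by_contra h7
      have := (Nat.pow_dvd_pow 2 (show 7 ≤ j by omega)).trans hdvd
      norm_num at this
    have heq : A ⊔ B = A ⊔ B ⊔ core Q c := eq_of_le_of_card_ge le_sup_left (by
      rw [hj, hk]; exact Nat.pow_le_pow_right (by norm_num) (hj6.trans hk6))
    have hO : core Q c ≤ centralizer ({e} : Set G) :=
      (le_sup_right.trans heq.ge).trans (hle.trans inf_le_right)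
    rcases (X.loc c hc.1 hc.2).centre e he.1 (fun y hy =>
      (mem_centralizer_singleton_iff.1 (hO hy)).symm) with h | h
    · exact h1 h
    · exact hec h
  have hK : 8 ≤ Nat.card ↥(A ⊓ B) := by
    have h := (B.subgroupOf A).card_mul_index
    have e1 : (B ⊓ A).subgroupOf A = B.subgroupOf A := inf_subgroupOf_right B A
    rw [inf_comm, ← Nat.card_congr (subgroupOfEquivOfLe (inf_le_right : B ⊓ A ≤ A)).toEquiv, e1]
    have hr : B.relIndex A ≤ B.relIndex (A ⊔ B) :=
      relIndex_le_of_le_right le_sup_left index_ne_zero_of_finite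
    have h2 : B.relIndex (A ⊔ B) * Nat.card B = Nat.card ↥(A ⊔ B) := by
      rw [relIndex, mul_comm, ← Nat.card_congr (subgroupOfEquivOfLe (le_sup_right : B ≤ A ⊔ B)).toEquiv]
      exact card_mul_index _
    change Nat.card ↥(B.subgroupOf A) * B.relIndex A = Nat.card A at h
    have h32 : Nat.card ↥(A ⊔ B) ≤ 32 := by
      rw [hk]; exact le_trans (Nat.pow_le_pow_right (by norm_num) hk5) (by norm_num)
    have hrel : B.relIndex (A ⊔ B) ≤ 2 := by
      by_contra h3
      push Not at h3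
      have := Nat.mul_le_mul h3 hB
      omega
    have := Nat.mul_le_mul_left (Nat.card ↥(B.subgroupOf A)) (hr.trans hrel)
    omega
  have hKline : ∀ x ∈ A ⊓ B, x ∈ line z Q c ∧ x ∈ line z Q e := by
    intro x hx
    have hxc := hx.1.1
    have hxe := hx.2.1
    have hx2 : x * x = 1 := by
      rcases (X.loc c hc.1 hc.2).sq x hxc with h | h
      · exact h
      rcases (X.loc e hez.1 hez.2).sq x hxe with h' | h'
      · exact h'
      exact absurd (h'.symm.trans h) hec
    have ht : x = 1 ∨ IsConj z x := by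
      by_contra hcon
      push Not at hcon
      exact hec (X.centre_unique hc hez hxc hxe hx2 hcon.1 hcon.2).symm
    exact ⟨⟨hxc, ht⟩, ⟨hxe, ht⟩⟩
  have key : ∀ d, Zt z Q d → (((A ⊓ B : Subgroup G) : Set G) ⊆ line z Q d) →
      ((A ⊓ B : Subgroup G) : Set G) = line z Q d := fun d hd hsub =>
    Set.eq_of_subset_of_ncard_le hsub (by
      rw [X.line_card hd, ← Nat.card_coe_set_eq]; exact hK) (Set.toFinite _)
  rw [← key e hez fun x hx => (hKline x hx).2, key c hc fun x hx => (hKline x hx).1]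

/-- The conjugates of `z` centralizing a conjugate `c` lie in its line. -/
theorem mem_line {c x : G} (hc : Zt z Q c) (hx : Zt z Q x) (hcomm : Commute x c) :
    x ∈ line z Q c := by
  classical
  haveI := Fintype.ofFinite G
  by_contra hxc
  have hxcent : x ∈ cent Q c := ⟨mem_centralizer_singleton_iff.2 hcomm, hx.2⟩
  have hinv : ∀ v ∈ line z Q c, x * v * x⁻¹ ∈ line z Q c := fun v hv =>
    ⟨X.core_conj hxcent hv.1, hv.2.imp (fun h => by rw [h]; group)
      (fun h => h.trans (isConj_iff.2 ⟨x, rfl⟩))⟩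
  have hxi : x⁻¹ = x := inv_eq_of_mul_eq_one_right (X.zt_sq hx.1)
  -- the part of the line centralized by `x`
  have hfix : 3 ≤ {v | v ∈ line z Q c ∧ Commute x v}.ncard := by
    set F := {v | v ∈ line z Q c ∧ Commute x v}
    have hφ : ∀ v ∈ line z Q c, v * (x * v * x⁻¹) ∈ F := fun v hv => by
      refine ⟨X.line_mul hc hv (hinv v hv), ?_⟩
      have hcm := X.line_comm hc hv (hinv v hv)
      show x * (v * (x * v * x⁻¹)) = v * (x * v * x⁻¹) * x
      calc x * (v * (x * v * x⁻¹)) = (x * v * x⁻¹) * (x * x) * v * x⁻¹ := by group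
        _ = (x * v * x⁻¹) * v * x := by rw [X.zt_sq hx.1, mul_one, hxi]
        _ = v * (x * v * x⁻¹) * x := by rw [hcm]
    have hfib : (line z Q c).toFinset.card ≤ F.ncard *
        ((line z Q c).toFinset.image fun v => v * (x * v * x⁻¹)).card := by
      refine Finset.card_le_mul_card_image _ _ fun g hg => ?_
      obtain ⟨v0, hv0, rfl⟩ := Finset.mem_image.1 hg
      rw [Set.ncard_eq_toFinset_card' F]
      refine Finset.card_le_card_of_injOn (fun v => v0 * v) (fun v hv => ?_)
        (fun _ _ _ _ h => mul_left_cancel h)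
      obtain ⟨hv, hve⟩ := Finset.mem_filter.1 hv
      rw [Set.mem_toFinset] at hv hv0
      rw [Finset.mem_coe, Set.mem_toFinset]
      refine ⟨X.line_mul hc hv0 hv, ?_⟩
      have h : x * (v0 * v) * x⁻¹ = v0 * v := by
        have hc1 := X.line_comm hc (hinv v0 hv0) (hinv v hv)
        have e1 : x * v0 * x⁻¹ = v0 * (v * (x * v * x⁻¹)) := by
          rw [hve, ← mul_assoc, X.line_sq hv0, one_mul]
        calc x * (v0 * v) * x⁻¹ = (x * v0 * x⁻¹) * (x * v * x⁻¹) := by group
          _ = v0 * v * ((x * v * x⁻¹) * (x * v * x⁻¹)) := by rw [e1]; group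
          _ = v0 * v := by rw [X.line_sq (hinv v hv), mul_one]
      exact mul_inv_eq_iff_eq_mul.1 h
    have himg : ((line z Q c).toFinset.image fun v => v * (x * v * x⁻¹)).card ≤ F.ncard := by
      rw [Set.ncard_eq_toFinset_card' F]
      refine Finset.card_le_card fun g hg => ?_
      obtain ⟨v, hv, rfl⟩ := Finset.mem_image.1 hg
      rw [Set.mem_toFinset] at hv ⊢
      exact hφ v hv
    have h8 : (line z Q c).toFinset.card = 8 := by
      rw [← Set.ncard_eq_toFinset_card']; exact X.line_card hc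
    have := hfib.trans (Nat.mul_le_mul_left _ himg)
    by_contra h3
    push Not at h3
    have := this.trans (Nat.mul_le_mul (Nat.le_of_lt_succ h3) (Nat.le_of_lt_succ h3))
    omega
  obtain ⟨e, ⟨he, hxe⟩, he'⟩ : ∃ e ∈ {v | v ∈ line z Q c ∧ Commute x v}, e ∉ ({1, c} : Set G) := by
    refine Set.exists_mem_notMem_of_ncard_lt_ncard ?_ (Set.toFinite _)
    exact lt_of_le_of_lt ((Set.ncard_insert_le _ _).trans (by rw [Set.ncard_singleton])) hfix
  simp only [Set.mem_insert_iff, Set.mem_singleton_iff, not_or] at he'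
  obtain ⟨M, hM, hMc, hMcore⟩ := (X.loc x hx.1 hx.2).inner
  have hnot : ∀ a ∈ line z Q c, a ≠ 1 → Commute x a → a ∈ cent Q x ∧ a ∉ M := by
    intro a ha ha1 hxa
    refine ⟨⟨mem_centralizer_singleton_iff.2 hxa.symm, ha.1.2⟩, fun haM => hxc ?_⟩
    have hax : a ∈ line z Q x := ⟨hMcore a haM (X.line_sq ha), ha.2⟩
    rw [← X.line_eq hc ha ha1, X.line_eq hx hax ha1]
    exact X.line_self hx
  have hcl := X.line_self hc
  obtain ⟨hc1, hc2⟩ := hnot c hcl (X.zt_ne hc.1) hcomm
  obtain ⟨he1, he2⟩ := hnot e he he'.1 hxe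
  have hce : c * e ≠ 1 := fun h => he'.2 (by
    rw [← inv_eq_of_mul_eq_one_right h]
    exact inv_eq_of_mul_eq_one_right (X.zt_sq hc.1))
  refine (hnot _ (X.line_mul hc hcl he) hce (hcomm.mul_right hxe)).2 ?_
  have hidx : (M.subgroupOf (cent Q x)).index = 2 := by
    have := (M.subgroupOf (cent Q x)).card_mul_index
    rw [Nat.card_congr (subgroupOfEquivOfLe hM).toEquiv, hMc, (X.loc x hx.1 hx.2).card_cent] at this
    omega
  exact ((mul_mem_iff_of_index_two hidx (a := ⟨c, hc1⟩) (b := ⟨e, he1⟩)).2 (iff_of_false hc2 he2))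

theorem commute_of_even {x y : G} (hx : Zt z Q x) (hy : Zt z Q y) (h : Even (orderOf (x * y))) :
    Commute x y := by
  have hxx := X.zt_sq hx.1
  have hyy := X.zt_sq hy.1
  obtain ⟨m, hm⟩ := h
  set r := x * y with hr
  have hxr : x * r = r⁻¹ * x := by
    rw [hr, mul_inv_rev, inv_eq_of_mul_eq_one_right hxx, inv_eq_of_mul_eq_one_right hyy,
      ← mul_assoc, hxx, one_mul, mul_assoc, hxx, mul_one]
  have hxry : x * r = y := by rw [hr, ← mul_assoc, hxx, one_mul]
  have hi : r ^ m * r ^ m = 1 := by rw [← pow_add, ← hm, pow_orderOf_eq_one]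
  have hi1 : r ^ m ≠ 1 := fun h => by
    have h0 := orderOf_pos r
    have := orderOf_le_of_pow_eq_one (n := m) (by omega) h
    omega
  have hrQ : r ∈ centralizer (Q : Set G) := mul_mem hx.2 hy.2
  have hix : Commute (r ^ m) x := by
    have h : x * r ^ m = (r ^ m)⁻¹ * x := by
      rw [← inv_pow]; exact (show SemiconjBy x r r⁻¹ from hxr).pow_right m
    rw [inv_eq_of_mul_eq_one_right hi] at h
    exact h.symm
  have hiy : Commute (r ^ m) y := hxry ▸ hix.mul_right ((Commute.refl r).pow_left m)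
  have hcase : ∀ j, IsConj z (x * r ^ j) := by
    intro j
    obtain ⟨k, rfl⟩ | ⟨k, rfl⟩ := Nat.even_or_odd j
    · rw [← two_mul, (H95.J4T.mul_word hxr k).1]
      exact hx.1.trans (isConj_iff.2 ⟨(r ^ k)⁻¹, by rw [inv_inv]⟩)
    · rw [(H95.J4T.mul_word hxr k).2, hxry]
      exact hy.1.trans (isConj_iff.2 ⟨(r ^ k)⁻¹, by rw [inv_inv]⟩)
  have hxi : x * r ^ m ∈ line z Q x := X.mem_line hx
    ⟨hcase m, mul_mem hx.2 (pow_mem hrQ m)⟩ ((Commute.refl x).mul_left hix)
  have hil : r ^ m ∈ line z Q x := by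
    have := X.line_mul hx (X.line_self hx) hxi
    rwa [← mul_assoc, hxx, one_mul] at this
  have hyi : y * r ^ m ∈ line z Q y := X.mem_line hy
    ⟨by rw [← hxry, mul_assoc, ← pow_succ']; exact hcase _, mul_mem hy.2 (pow_mem hrQ m)⟩
    ((Commute.refl y).mul_left hiy)
  have hil' : r ^ m ∈ line z Q y := by
    have := X.line_mul hy (X.line_self hy) hyi
    rwa [← mul_assoc, hyy, one_mul] at this
  have hyl : y ∈ line z Q x := by
    rw [← X.line_eq hx hil hi1, X.line_eq hy hil' hi1]
    exact X.line_self hy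
  exact X.line_comm hx (X.line_self hx) hyl

/-- Two conjugates of `z` centralizing another involution commute. -/
theorem commute_of_other {s x y : G} (hs : s ∈ centralizer (Q : Set G)) (hs2 : s * s = 1)
    (hs1 : s ≠ 1) (hsz : ¬ IsConj z s) (hx : Zt z Q x) (hy : Zt z Q y) (hxs : Commute x s)
    (hys : Commute y s) : Commute x y := by
  rcases Nat.even_or_odd (orderOf (x * y)) with h | h
  · exact X.commute_of_even hx hy h
  have hxx := X.zt_sq hx.1
  have hyy := X.zt_sq hy.1
  have hr := X.odd s x (x * y) hs hx.2 (mul_mem hx.2 hy.2) hs2 hs1 hsz hxx hxs (hxs.mul_left hys)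
    h (by
      rw [mul_inv_rev, inv_eq_of_mul_eq_one_right hxx, inv_eq_of_mul_eq_one_right hyy,
        ← mul_assoc, hxx, one_mul])
  rw [← inv_eq_of_mul_eq_one_right hr, inv_eq_of_mul_eq_one_right hxx]

/-- The conjugates of `z` in the centralizer of `Q` are the line of `z`. -/
theorem mem_line_z {c : G} (hc : Zt z Q c) : c ∈ line z Q z := by
  classical
  obtain ⟨g, hg, rfl⟩ := X.fus c hc.1 hc.2
  have hz : Zt z Q z := ⟨IsConj.refl z, X.z_cent⟩
  obtain ⟨t, ht, ht2, ht1, htz⟩ := X.other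
  set t' := g * t * g⁻¹ with ht'
  have ht'Q : t' ∈ centralizer (Q : Set G) := mul_mem (mul_mem hg ht.2) (inv_mem hg)
  have ht'2 : t' * t' = 1 := by
    rw [ht', show g * t * g⁻¹ * (g * t * g⁻¹) = g * (t * t) * g⁻¹ by group, ht2]; group
  have ht'1 : t' ≠ 1 := fun h => ht1 (conj_eq_one_iff.1 h)
  have ht'z : ¬ IsConj z t' := fun h => htz (h.trans (isConj_iff.2 ⟨g⁻¹, by rw [ht']; group⟩))
  have hy0 : Commute (g * z * g⁻¹) t' :=
    (show Commute z t from (mem_centralizer_singleton_iff.1 (X.core_le_cent z ht).1).symm).map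
      (MulAut.conj g).toMonoidHom
  set r := z * t' with hr
  have hzr : z * r = r⁻¹ * z := by
    rw [hr, mul_inv_rev, inv_eq_of_mul_eq_one_right X.z_sq, inv_eq_of_mul_eq_one_right ht'2,
      ← mul_assoc, X.z_sq, one_mul, mul_assoc, X.z_sq, mul_one]
  have hzrt : z * r = t' := by rw [hr, ← mul_assoc, X.z_sq, one_mul]
  obtain ⟨m, hm⟩ | ⟨k, hk⟩ := Nat.even_or_odd (orderOf r)
  swap
  · exfalso
    have e := (H95.J4T.mul_word hzr k).2
    rw [← hk, pow_orderOf_eq_one, mul_one, hzrt] at e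
    exact ht'z (isConj_iff.2 ⟨r ^ k, by rw [e]; group⟩)
  set i := r ^ m with hi
  have hi2 : i * i = 1 := by rw [hi, ← pow_add, ← hm, pow_orderOf_eq_one]
  have hi1 : i ≠ 1 := fun h => by
    have h0 := orderOf_pos r
    have := orderOf_le_of_pow_eq_one (n := m) (by omega) h
    omega
  have hiQ : i ∈ centralizer (Q : Set G) := pow_mem (mul_mem X.z_cent ht'Q) m
  have hiz : Commute i z := by
    have h : z * r ^ m = (r ^ m)⁻¹ * z := by
      rw [← inv_pow]; exact (show SemiconjBy z r r⁻¹ from hzr).pow_right m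
    rw [← hi, inv_eq_of_mul_eq_one_right hi2] at h
    exact h.symm
  have hit : Commute i t' := hzrt ▸ hiz.mul_right ((Commute.refl r).pow_left m)
  -- an element of the line commuting with `t'`
  have hti : t'⁻¹ = t' := inv_eq_of_mul_eq_one_right ht'2
  obtain ⟨e, he, he1, het⟩ : ∃ e ∈ line z Q z, e ≠ 1 ∧ Commute e t' := by
    by_cases hiS : IsConj z i
    · have hil := X.mem_line hz ⟨hiS, hiQ⟩ hiz
      exact ⟨i, hil, hi1, hit⟩
    · set y0 := g * z * g⁻¹ with hy0def
      set y1 := i * y0 * i⁻¹ with hy1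
      have hz0 : Zt z Q y0 := hc
      have hz1 : Zt z Q y1 := ⟨hc.1.trans (isConj_iff.2 ⟨i, rfl⟩),
        mul_mem (mul_mem hiQ hc.2) (inv_mem hiQ)⟩
      have hy1t : Commute y1 t' := (hit.mul_left hy0).mul_left hit.inv_left
      have h01 : Commute y0 y1 := X.commute_of_other ht'Q ht'2 ht'1 ht'z hz0 hz1 hy0 hy1t
      obtain ⟨y, hy, hyi, hyt⟩ : ∃ y, Zt z Q y ∧ Commute y i ∧ Commute y t' := by
        by_cases h : y0 = y1
        · exact ⟨y0, hz0, (mul_inv_eq_iff_eq_mul.1 h.symm).symm, hy0⟩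
        have hy1l : y1 ∈ line z Q y0 := X.mem_line hz0 hz1 h01.symm
        have hne : y0 * y1 ≠ 1 := fun h' => h (by
          rw [← inv_eq_of_mul_eq_one_right h']
          exact (inv_eq_of_mul_eq_one_right (X.zt_sq hz0.1)).symm)
        refine ⟨y0 * y1, ⟨(X.line_mul hz0 (X.line_self hz0) hy1l).2.resolve_left hne,
          mul_mem hz0.2 hz1.2⟩, ?_, hy0.mul_left hy1t⟩
        show y0 * y1 * i = i * (y0 * y1)
        have hii : i⁻¹ = i := inv_eq_of_mul_eq_one_right hi2
        calc y0 * y1 * i = y0 * i * y0 * (i⁻¹ * i) := by rw [hy1]; group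
          _ = y1 * (y1 * (y0 * i * y0)) := by
            rw [inv_mul_cancel, mul_one, ← mul_assoc y1, X.zt_sq hz1.1, one_mul]
          _ = i * (y0 * y1) := by
            rw [hy1, hii]
            calc i * y0 * i * (i * y0 * i * (y0 * i * y0))
                = i * y0 * (i * i) * (y0 * i * y0) * i * y0 := by group
              _ = i * (y0 * y0) * i * y0 * i * y0 := by rw [hi2]; group
              _ = (i * i) * y0 * i * y0 := by rw [X.zt_sq hz0.1]; group
              _ = i * i * (y0 * i * y0) := by group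
              _ = _ := by
                rw [hi2, one_mul]
                have h := h01.eq
                rw [hy1, hii] at h
                calc y0 * i * y0 = i * i * y0 * i * y0 := by rw [hi2, one_mul]
                  _ = i * (i * y0 * i * y0) := by group
                  _ = i * (y0 * (i * y0 * i)) := by rw [← h]
      have hyz : Commute y z := X.commute_of_other hiQ hi2 hi1 hiS hy hz hyi hiz.symm
      exact ⟨y, X.mem_line hz hy hyz, X.zt_ne hy.1, hyt⟩
  have hez : Zt z Q e := (X.line_symm hz he he1).1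
  rw [← X.line_eq hz he he1]
  exact X.mem_line hez hc (X.commute_of_other ht'Q ht'2 ht'1 ht'z hc hez hy0 het)

/-- The line of `z` is normal in the centralizer of `Q`. -/
theorem line_conj {g v : G} (hg : g ∈ centralizer (Q : Set G)) (hv : v ∈ line z Q z) :
    g * v * g⁻¹ ∈ line z Q z := by
  rcases hv.2 with rfl | hvz
  · have : g * 1 * g⁻¹ = 1 := by group
    rw [this]; exact hv
  exact X.mem_line_z ⟨hvz.trans (isConj_iff.2 ⟨g, rfl⟩), mul_mem (mul_mem hg hv.1.2) (inv_mem hg)⟩

/-- The order of the centralizer of `Q`. -/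
theorem card_centralizer : Nat.card ↥(centralizer (Q : Set G)) = 6720 := by
  classical
  have hz : Zt z Q z := ⟨IsConj.refl z, X.z_cent⟩
  set C := centralizer (Q : Set G)
  set H := (centralizer ({z} : Set G)).subgroupOf C
  have hH : Nat.card H = 960 := by
    rw [← (X.loc z hz.1 hz.2).card_cent]
    exact Nat.card_congr ⟨fun x => ⟨x.1.1, x.2, x.1.2⟩, fun x => ⟨⟨x.1, x.2.2⟩, x.2.1⟩,
      fun x => rfl, fun x => rfl⟩
  let S : Set G := line z Q z \ {1}
  have hS : S.ncard = 7 := by
    rw [Set.ncard_sdiff_singleton_of_mem (show (1 : G) ∈ line z Q z from ⟨one_mem _, Or.inl rfl⟩),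
      X.line_card hz]
  let f : ↥C ⧸ H → S := Quotient.lift
    (fun g : ↥C => (⟨(g : G) * z * (g : G)⁻¹, X.line_conj g.2 (X.line_self hz),
      fun h => X.z_ne (conj_eq_one_iff.1 h)⟩ : S))
    (fun a b hab => Subtype.ext (by
      have h : (a⁻¹ * b : ↥C) ∈ H := QuotientGroup.leftRel_apply.1 hab
      have hcomm : ((a : G)⁻¹ * b) * z = z * ((a : G)⁻¹ * b) :=
        mem_centralizer_singleton_iff.1 (mem_subgroupOf.1 h)
      show (a : G) * z * (a : G)⁻¹ = (b : G) * z * (b : G)⁻¹
      calc (a : G) * z * (a : G)⁻¹ = (a : G) * (z * ((a : G)⁻¹ * b)) * (b : G)⁻¹ := by group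
        _ = _ := by rw [← hcomm]; group))
  have hbij : Function.Bijective f := by
    refine ⟨fun u v h => ?_, fun s => ?_⟩
    · induction u using QuotientGroup.induction_on with
      | H a =>
        induction v using QuotientGroup.induction_on with
        | H b =>
          refine QuotientGroup.eq.2 (mem_subgroupOf.2 (mem_centralizer_singleton_iff.2 ?_))
          have h' : (a : G) * z * (a : G)⁻¹ = (b : G) * z * (b : G)⁻¹ := congrArg Subtype.val h
          show ((a : G)⁻¹ * b) * z = z * ((a : G)⁻¹ * b)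
          calc (a : G)⁻¹ * b * z = (a : G)⁻¹ * ((b : G) * z * (b : G)⁻¹) * b := by group
            _ = _ := by rw [← h']; group
    · obtain ⟨hs, hs1⟩ := s.2
      obtain ⟨g, hg, he⟩ := X.fus s.1 (hs.2.resolve_left hs1) hs.1.2
      exact ⟨(⟨g, hg⟩ : ↥C), Subtype.ext he⟩
  have hidx : H.index = 7 := by
    rw [index_eq_card, Nat.card_congr (Equiv.ofBijective f hbij), Nat.card_coe_set_eq, hS]
  rw [← H.card_mul_index, hH, hidx]

end Env

end H95.J4Five
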