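import Cfsg.Agent.H88.J4Fusion.Cert

/-!
Kernel checks on the vectors fixed by the element of order five.
-/

set_option autoImplicit false
set_option maxRecDepth 100000

namespace H95.J4Five

open Cfsg.Agent.H69.J4 H88.J4Fusion

/-- Steps towards the root of a tree. -/
def endV : ℕ → ℕ → ℕ
  | 0, v => v
  | n + 1, v => bif (Nat.beq v 0 || sVec.contains v || Nat.beq v rootN) then v
      else endV n (ap (letter (stepJ v)) v)

/-- The fixed vectors over conjugates of the central involution, with zero. -/
def lineV : List ℕ := [0, 1025, 2618, 3643]

theorem fixV_ok : ((List.range 4096).all fun v => Nat.beq (ap mC v) v == vF.contains v) = true := by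
  decide +kernel

theorem vF_nodup : vF.Nodup ∧ vF.length = 16 ∧ (vF.all fun v => Nat.blt v 4096) = true := by
  decide +kernel

theorem lineV_ok : (lineV.Nodup ∧ (lineV.all fun v => vF.contains v) = true) ∧
    (lineV.all fun u => lineV.all fun v => lineV.contains (u ^^^ v)) = true ∧
    (vF.all fun v => bif lineV.contains v then (Nat.beq v 0 || orb1.contains (endV 40 v))
      else (Nat.beq (endV 40 v) rootN || orb0.contains (endV 40 v))) = true := by
  decide +kernel

theorem other_ok : vF.contains 1594 = true ∧ orb0.contains (endV 40 1594) = true := by
  decide +kernel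

end H95.J4Five
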