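import Cfsg.Agent.H82.J4Cx.Gen
import Cfsg.Agent.H82.J4Cx.Count
import Cfsg.Agent.H95.J4Five.Cert

/-!
The element of order five and its fixed points on `E`.
-/

set_option autoImplicit false
set_option linter.unusedSectionVars false

namespace H95.J4Five

open Subgroup Cfsg.Agent.H69.J4 H88.J4Fusion

variable {G : Type*} [Group G] [Finite G]
variable {z : G} {E P N : Subgroup G} {d : Data z E P} (R : Real d)
  {e : ↥(centralizer ({z} : Set G)) →* MulAut ↥Cfsg.Spor.M22}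

/-- The element of order five. -/
def q5 : ↥(centralizer ({z} : Set G)) := R.g 1 ^ 16

theorem code_q5 : R.code (d.ρ (q5 R)) = mC := by
  rw [q5, map_pow, H82.J4Cx.code_pow, R.mat_letter]
  decide +kernel

theorem ρ_q5_apply (v : ℕ) : d.ρ (q5 R) (R.φ v) = R.φ (ap mC v) := by
  rw [R.apply, code_q5]

theorem g1_pow : d.ρ (R.g 1) ^ 5 = 1 := R.mat_inj (by
  rw [H82.J4Cx.code_pow, R.mat_letter, R.mat_one]
  decide +kernel)

theorem q5_pow : (q5 R : G) ^ 5 = 1 := by
  have hE : ((R.g 1 ^ 5 : ↥(centralizer ({z} : Set G))) : G) ∈ E :=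
    (d.mem_ker_iff).1 (by rw [map_pow, g1_pow])
  have h4 : ((R.g 1 : G) ^ 5) ^ 4 = 1 := by
    rw [show (4 : ℕ) = 2 * 2 from rfl, pow_mul, pow_two ((R.g 1 : G) ^ 5)]
    rcases d.L.sq_cases hE with h | h <;> rw [SubgroupClass.coe_pow] at h <;> rw [h]
    · exact one_pow 2
    · rw [pow_two, d.L.zz]
  rw [q5, SubgroupClass.coe_pow, ← pow_mul, show 16 * 5 = (5 * 4) * 4 from rfl, pow_mul,
    show (R.g 1 : G) ^ (5 * 4) = 1 by rw [pow_mul, h4], one_pow]

theorem ρ_q5_ne : d.ρ (q5 R) ≠ 1 := fun h => by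
  have h' := code_q5 R
  rw [h, R.mat_one] at h'
  revert h'
  decide +kernel

theorem q5_ne : (q5 R : G) ≠ 1 := fun h =>
  ρ_q5_ne R (by rw [show q5 R = 1 from Subtype.ext h, map_one])

theorem orderOf_q5 : orderOf (q5 R : G) = 5 := by
  haveI : Fact (Nat.Prime 5) := ⟨by norm_num⟩
  exact orderOf_eq_prime (q5_pow R) (q5_ne R)

theorem card_zpowers_q5 : Nat.card ↥(zpowers (q5 R : G)) = 5 := by
  rw [Nat.card_zpowers, orderOf_q5]

theorem q5_comm_P {p : G} (hp : p ∈ P) : p * (q5 R : G) = q5 R * p :=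
  mem_centralizer_iff.1 (mem_subgroupOf.1 (pow_mem (R.memC 1) 16)) p hp

theorem mem_cent_iff {x : G} :
    x ∈ centralizer ((zpowers (q5 R : G) : Subgroup G) : Set G) ↔
      (q5 R : G) * x = x * q5 R := by
  rw [mem_centralizer_iff]
  refine ⟨fun h => h _ (mem_zpowers _), fun h u hu => ?_⟩
  obtain ⟨k, rfl⟩ := mem_zpowers_iff.1 hu
  exact ((show Commute (q5 R : G) x from h).zpow_left k).eq

/-- An element of `E` commutes with the element of order five iff its class is fixed. -/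
theorem comm_iff {x : G} (hx : x ∈ E) :
    (q5 R : G) * x = x * q5 R ↔ ∃ v ∈ vF, R.φ v = QuotientGroup.mk (⟨x, hx⟩ : E) := by
  obtain ⟨v, hv, hvx⟩ := R.φ_surj (QuotientGroup.mk (⟨x, hx⟩ : E))
  have hok := fun v (hv : v < 4096) => beq_iff_eq.1
    ((List.all_eq_true.1 fixV_ok) v (List.mem_range.2 hv))
  constructor
  · intro h
    refine ⟨v, ?_, hvx⟩
    have h1 := ρ_q5_apply R v
    rw [hvx, d.ρ_mk] at h1
    have h2 : (⟨(q5 R : G) * x * (q5 R : G)⁻¹, d.L.conj_mem (q5 R).2 hx⟩ : E) = ⟨x, hx⟩ :=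
      Subtype.ext (show (q5 R : G) * x * (q5 R : G)⁻¹ = x by rw [h, mul_inv_cancel_right])
    rw [h2, ← hvx] at h1
    have h3 := R.φ_inj hv (ap_lt (n := 12) (code_q5 R ▸ R.mat_lt _ : ∀ a ∈ mC, a < 4096) v) h1
    have h4 := hok v hv
    rw [← h3, Nat.beq_refl, eq_comm, List.contains_iff_mem] at h4
    exact h4
  · rintro ⟨w, hw, hwx⟩
    have hw' : w < 4096 := Nat.blt_eq.mp ((List.all_eq_true.1 vF_nodup.2.2) w hw)
    have h4 := hok w hw'
    rw [List.contains_iff_mem.2 hw] at h4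
    have h1 := ρ_q5_apply R w
    rw [Nat.eq_of_beq_eq_true h4, hwx, d.ρ_mk, d.mk_eq_iff] at h1
    rcases h1 with h1 | h1
    · exact mul_inv_eq_iff_eq_mul.1 h1.symm
    · exfalso
      change x = (q5 R : G) * x * (q5 R : G)⁻¹ * z at h1
      have h1' : (q5 R : G) * x * (q5 R : G)⁻¹ = x * z := by
        conv_rhs => rw [h1, mul_assoc ((q5 R : G) * x * (q5 R : G)⁻¹), d.L.zz, mul_one]
      have hqz : Commute (q5 R : G) z := mem_centralizer_singleton_iff.1 (q5 R).2
      have key : ∀ n : ℕ, (q5 R : G) ^ n * x * ((q5 R : G) ^ n)⁻¹ = x * z ^ n := by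
        intro n
        induction n with
        | zero => simp
        | succ n ih =>
          calc (q5 R : G) ^ (n + 1) * x * ((q5 R : G) ^ (n + 1))⁻¹
              = (q5 R : G) * ((q5 R : G) ^ n * x * ((q5 R : G) ^ n)⁻¹) * (q5 R : G)⁻¹ := by
                rw [pow_succ']; group
            _ = (q5 R : G) * x * (q5 R : G)⁻¹ * ((q5 R : G) * z ^ n * (q5 R : G)⁻¹) := by
                rw [ih]; group
            _ = x * z * z ^ n := by
                rw [h1', (hqz.pow_right n).eq, mul_inv_cancel_right]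
            _ = x * z ^ (n + 1) := by rw [pow_succ' z, mul_assoc]
      have h5 := key 5
      rw [q5_pow, show (5 : ℕ) = 2 * 2 + 1 from rfl, pow_succ z, pow_mul, pow_two z, d.L.zz,
        one_pow, one_mul, one_mul, inv_one, mul_one] at h5
      exact d.L.z_ne_one (mul_eq_left.1 h5.symm)

/-- The fixed points in `E`. -/
def fixE : Subgroup G := E ⊓ centralizer ((zpowers (q5 R : G) : Subgroup G) : Set G)

theorem mem_fixE {x : G} : x ∈ fixE R ↔
    ∃ h : x ∈ E, ∃ v ∈ vF, R.φ v = QuotientGroup.mk (⟨x, h⟩ : E) := by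
  rw [fixE, mem_inf, mem_cent_iff]
  exact ⟨fun ⟨h1, h2⟩ => ⟨h1, (comm_iff R h1).1 h2⟩, fun ⟨h1, h2⟩ => ⟨h1, (comm_iff R h1).2 h2⟩⟩

theorem card_over_vF {o : List ℕ} (hlt : ∀ v ∈ o, v < 4096) (hnd : o.Nodup) :
    (lifts R o).ncard = 2 * o.length := by
  classical
  set S : Set (Bar E) := R.φ '' {v | v ∈ o} with hS
  have h1 : Nat.card ((QuotientGroup.mk : ↥E → Bar E) ⁻¹' S) = 2 * o.length := by
    rw [Nat.card_congr (QuotientGroup.preimageMkEquivSubgroupProdSet (center ↥E) S), Nat.card_prod,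
      d.L.hext.2, Nat.card_coe_set_eq, hS]
    have hinj : Set.InjOn R.φ {v | v ∈ o} := fun a ha b hb e =>
      R.φ_inj (hlt a ha) (hlt b hb) e
    rw [hinj.ncard_image]
    rw [show {v | v ∈ o} = (o.toFinset : Set ℕ) by ext v; simp, Set.ncard_coe_finset,
      List.toFinset_card_of_nodup hnd]
  rw [← h1, ← Nat.card_coe_set_eq]
  exact Nat.card_congr
    { toFun := fun a => ⟨⟨a.1, a.2.1⟩, a.2.2⟩
      invFun := fun a => ⟨(a.1 : G), a.1.2, a.2⟩
      left_inv := fun _ => rfl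
      right_inv := fun _ => rfl }

theorem card_fixE : Nat.card (fixE R) = 32 := by
  have h := card_over_vF R (o := vF) (fun v hv => Nat.blt_eq.mp
    ((List.all_eq_true.1 vF_nodup.2.2) v hv)) vF_nodup.1
  rw [vF_nodup.2.1] at h
  refine Eq.trans ?_ h
  rw [← Nat.card_coe_set_eq]
  exact Nat.card_congr (Equiv.subtypeEquivRight fun x => by
    rw [mem_fixE]; rfl)

/-- Following the tree is induced by an element of `H`. -/
theorem exists_end : ∀ n v, ∃ h : ↥(centralizer ({z} : Set G)),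
    d.ρ h (R.φ v) = R.φ (endV n v)
  | 0, v => ⟨1, by rw [map_one]; rfl⟩
  | n + 1, v => by
    cases hb : (Nat.beq v 0 || sVec.contains v || Nat.beq v rootN) with
    | true => exact ⟨1, by rw [endV, hb, map_one]; rfl⟩
    | false =>
      obtain ⟨h, hh⟩ := exists_end n (ap (letter (stepJ v)) v)
      refine ⟨h * R.g (stepJ v), ?_⟩
      rw [endV, hb, map_mul, MulAut.mul_apply, letter_step, hh]
      rfl

/-- A conjugate of `z` lies over no vector of the first orbit. -/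
theorem orb0_not [IsSimpleGroup G] (hG : ¬ IsMulCommutative G) (o : Outer z E P N e)
    (h1771 : Nat.card (zO R) = 1771) {a : G} (ha : a ∈ lifts R orb0) : ¬ IsConj z a := by
  classical
  intro hz
  obtain ⟨g, hg⟩ := isConj_iff.1 hz
  have haz : a ∈ zO R := ⟨R.sHat_le_V0 (over_mem_sHat R (List.mem_cons_self ..) ha).1, g, hg⟩
  set A := (zO R ∩ R.sHat) \ {z} with hA
  have hsub : lifts R orb0 ∪ lifts R orb1 ⊆ A := by
    rintro x (hx | hx)
    · exact ⟨⟨over_saturated R (List.mem_cons_self ..) ha hx haz,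
        (over_mem_sHat R (List.mem_cons_self ..) hx).1⟩,
        (over_mem_sHat R (List.mem_cons_self ..) hx).2.2⟩
    · exact ⟨⟨H82.J4Cx.orb1_zO R hG o x hx, (over_mem_sHat R (by simp) hx).1⟩,
        (over_mem_sHat R (o := orb1) (by simp) hx).2.2⟩
  have hAeq : A = lifts R orb0 ∪ lifts R orb1 := Set.Subset.antisymm (inner_part R) hsub
  have h126 : A.ncard = 126 := by
    rw [hAeq, Set.ncard_union_eq ?_ (Set.toFinite _) (Set.toFinite _),
      card_over R (List.mem_cons_self ..) orb_nodup.1, card_over R (by simp) orb_nodup.2.1,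
      orb_nodup.2.2.1, orb_nodup.2.2.2]
    rw [Set.disjoint_left]
    rintro b ⟨hb, v, hv, hvb⟩ ⟨hb', w, hw, hwb⟩
    have he : v = w := R.φ_inj (sVec_bound (orb_sVec (List.mem_cons_self ..) hv).1)
      (sVec_bound (orb_sVec (o := orb1) (by simp) hw).1) (hvb.trans hwb.symm)
    have := (List.all_eq_true.1 orb_excl) w hw
    simp [← he, hv] at this
  have hm0 : mK2.getD 0 ([] : List ℕ) ∈ (mQ : List (List ℕ)) := by decide +kernel
  obtain ⟨j, hj, hjA⟩ := List.getElem_of_mem hm0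
  obtain ⟨w, hw⟩ := R.exists_of_mem_mQ j (q_len ▸ hj)
  rw [List.getD_eq_getElem (hn := hj), hjA] at hw
  have hsum : Nat.card (zO R) = 1 + A.ncard + 15 * Nat.card (part R (d.ρ (R.word w))) := by
    rw [Nat.card_coe_set_eq, ← Set.ncard_inter_add_ncard_sdiff_eq_ncard (zO R) R.sHat (Set.toFinite _),
      hA, outer_card R hw, ← Set.ncard_sdiff_singleton_add_one
        (show z ∈ zO R ∩ R.sHat from ⟨z_mem_zO R, R.z_mem_sHat⟩) (Set.toFinite _)]
    omega
  rw [h1771, h126] at hsum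
  omega

/-- The type of a fixed element of `E`. -/
theorem type_cases [IsSimpleGroup G] (hG : ¬ IsMulCommutative G) (o : Outer z E P N e)
    (h1771 : Nat.card (zO R) = 1771) {a : G} (ha : a ∈ E) {v : ℕ} (hv : v ∈ vF)
    (hva : R.φ v = QuotientGroup.mk (⟨a, ha⟩ : E)) :
    (v ∈ lineV → a = 1 ∨ IsConj z a) ∧ (v ∉ lineV → a ≠ 1 ∧ ¬ IsConj z a ∧
      (orb0.contains (endV 40 v) = true → a * a = 1)) := by
  have hclass := (List.all_eq_true.1 lineV_ok.2.2) v hv
  obtain ⟨h, hh⟩ := exists_end R 40 v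
  rw [hva, d.ρ_mk] at hh
  set b := (h : G) * a * (h : G)⁻¹ with hb
  have hab : IsConj a b := isConj_iff.2 ⟨h, rfl⟩
  refine ⟨fun hl => ?_, fun hl => ?_⟩
  · rw [List.contains_iff_mem.2 hl, cond_true, Bool.or_eq_true, List.contains_iff_mem] at hclass
    rcases hclass with h0 | h1
    · rw [Nat.eq_of_beq_eq_true h0, R.φ_zero] at hva
      rcases (d.mk_eq_one).1 hva.symm with e1 | e1 <;> change a = _ at e1
      · exact Or.inl e1
      · exact Or.inr (e1 ▸ IsConj.refl z)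
    · obtain ⟨-, g, hg⟩ := H82.J4Cx.orb1_zO R hG o b ⟨d.L.conj_mem h.2 ha, _, h1, hh.symm⟩
      exact Or.inr ((isConj_iff.2 ⟨g, hg⟩).trans hab.symm)
  · have hc : lineV.contains v = false := by simpa using hl
    rw [hc, cond_false, Bool.or_eq_true, List.contains_iff_mem] at hclass
    have hne : a ≠ 1 := fun e1 => hl (by
      subst e1
      have : R.φ v = R.φ 0 := by rw [hva, R.φ_zero]; exact (d.mk_eq_one).2 (Or.inl rfl)
      rw [R.φ_inj (Nat.blt_eq.mp ((List.all_eq_true.1 vF_nodup.2.2) v hv)) (by norm_num) this]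
      decide)
    rcases hclass with hr | h0
    · have hsq : a * a ≠ 1 := fun h2 => by
        have hq : R.qv rootN = 0 := by
          rw [R.qv_mk ⟨b, d.L.conj_mem h.2 ha⟩ rootN
            (by rw [← Nat.eq_of_beq_eq_true hr, ← hh])]
          exact if_pos (show b * b = 1 by
            rw [hb, show (h : G) * a * (h : G)⁻¹ * ((h : G) * a * (h : G)⁻¹) =
              h * (a * a) * (h : G)⁻¹ by group, h2]; group)
        rw [qv_root R] at hq
        exact one_ne_zero hq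
      refine ⟨hne, fun hz => hsq ?_, fun h0 => ?_⟩
      · obtain ⟨g, rfl⟩ := isConj_iff.1 hz
        exact sq_conj_z d g
      · exfalso
        rw [Nat.eq_of_beq_eq_true hr] at h0
        revert h0
        decide +kernel
    · have hbl : b ∈ lifts R orb0 := ⟨d.L.conj_mem h.2 ha, _, h0, hh.symm⟩
      refine ⟨hne, fun hz => orb0_not R hG o h1771 hbl (hz.trans hab), fun _ => ?_⟩
      have h2 := R.sHat_sq (over_mem_sHat R (List.mem_cons_self ..) hbl).1
      rw [hb, show (h : G) * a * (h : G)⁻¹ * ((h : G) * a * (h : G)⁻¹) =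
        h * (a * a) * (h : G)⁻¹ by group] at h2
      exact conj_eq_one_iff.1 h2

/-- The conjugates of `z` among the fixed points, with one. -/
def lineE : Subgroup G where
  carrier := lifts R lineV
  one_mem' := ⟨one_mem E, 0, by decide, by
    rw [R.φ_zero]; exact ((d.mk_eq_one).2 (Or.inl rfl)).symm⟩
  mul_mem' := by
    rintro a b ⟨ha, u, hu, hua⟩ ⟨hb, v, hv, hvb⟩
    refine ⟨mul_mem ha hb, u ^^^ v, ?_, ?_⟩
    · have h := (List.all_eq_true.1 ((List.all_eq_true.1 lineV_ok.2.1) u hu)) v hv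
      exact List.contains_iff_mem.1 h
    · rw [R.φ_xor, hua, hvb]; rfl
  inv_mem' := by
    rintro a ⟨ha, u, hu, hua⟩
    refine ⟨inv_mem ha, u, hu, ?_⟩
    rw [hua, show (⟨a⁻¹, inv_mem ha⟩ : E) = (⟨a, ha⟩ : E)⁻¹ from rfl, QuotientGroup.mk_inv,
      inv_eq_of_mul_eq_one_right (d.sq_bar _)]

theorem card_lineE : Nat.card (lineE R) = 8 := by
  show Nat.card (lifts R lineV) = 8
  rw [Nat.card_coe_set_eq, card_over_vF R (fun v hv => Nat.blt_eq.mp
    ((List.all_eq_true.1 vF_nodup.2.2) v (List.contains_iff_mem.1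
      ((List.all_eq_true.1 lineV_ok.1.2) v hv)))) lineV_ok.1.1]
  rfl

theorem mem_lineE [IsSimpleGroup G] (hG : ¬ IsMulCommutative G) (o : Outer z E P N e)
    (h1771 : Nat.card (zO R) = 1771) {x : G} :
    x ∈ lineE R ↔ x ∈ fixE R ∧ (x = 1 ∨ IsConj z x) := by
  constructor
  · rintro ⟨hx, v, hv, hvx⟩
    have hvF : v ∈ vF := List.contains_iff_mem.1 ((List.all_eq_true.1 lineV_ok.1.2) v hv)
    exact ⟨(mem_fixE R).2 ⟨hx, v, hvF, hvx⟩, (type_cases R hG o h1771 hx hvF hvx).1 hv⟩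
  · rintro ⟨hx, hxz⟩
    obtain ⟨hxE, v, hv, hvx⟩ := (mem_fixE R).1 hx
    refine ⟨hxE, v, ?_, hvx⟩
    by_contra hl
    obtain ⟨h1, h2, -⟩ := (type_cases R hG o h1771 hxE hv hvx).2 hl
    exact hxz.elim h1 h2

/-- An involution of `E` fixed by the element of order five, not a conjugate of `z`. -/
theorem exists_other [IsSimpleGroup G] (hG : ¬ IsMulCommutative G) (o : Outer z E P N e)
    (h1771 : Nat.card (zO R) = 1771) :
    ∃ t ∈ fixE R, t * t = 1 ∧ t ≠ 1 ∧ ¬ IsConj z t := by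
  obtain ⟨a, ha⟩ := QuotientGroup.mk_surjective (R.φ 1594)
  have hv : 1594 ∈ vF := List.contains_iff_mem.1 other_ok.1
  obtain ⟨h1, h2, h3⟩ := (type_cases R hG o h1771 a.2 hv ha.symm).2 (by decide)
  exact ⟨a, (mem_fixE R).2 ⟨a.2, _, hv, ha.symm⟩, h3 other_ok.2, h1, h2⟩

/-- The centre of the fixed points. -/
theorem fixE_centre {x : G} (hx : x ∈ fixE R) (hc : ∀ y ∈ fixE R, x * y = y * x) :
    x = 1 ∨ x = z := by
  classical
  obtain ⟨hxE, hxQ⟩ := hx
  have hxq := (mem_cent_iff R).1 hxQ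
  refine d.L.eq_one_or_z_of_central hxE fun y hy => ?_
  have hbil : ∀ {y}, y ∈ E → (x * y = y * x ↔ Data.bil x y = 0) := fun {y} _ => by
    unfold Data.bil
    constructor
    · intro h; rw [if_pos h]
    · intro h; by_contra h'; rw [if_neg h'] at h; exact one_ne_zero h
  suffices Data.bil x y = 0 by
    have := (hbil hy).2 this
    exact this.symm
  set q : G := (q5 R : G)
  have hconjE : ∀ n : ℕ, ∀ y ∈ E, q ^ n * y * (q ^ n)⁻¹ ∈ E := fun n y hy =>
    d.L.conj_mem (pow_mem (q5 R).2 n) hy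
  have hinv : ∀ n : ℕ, Data.bil x (q ^ n * y * (q ^ n)⁻¹) = Data.bil x y := by
    intro n
    have hxn : q ^ n * x * (q ^ n)⁻¹ = x := by
      rw [((show Commute q x from hxq).pow_left n).eq, mul_inv_cancel_right]
    conv_lhs => rw [← hxn]
    exact bil_conj _ _ _
  -- the product over the orbit
  set u : ℕ → G := fun n => q ^ n * y * (q ^ n)⁻¹ with hu
  set m : G := u 0 * u 1 * u 2 * u 3 * u 4 with hm
  have huE : ∀ n, u n ∈ E := fun n => hconjE n y hy
  have hmE : m ∈ E := mul_mem (mul_mem (mul_mem (mul_mem (huE 0) (huE 1)) (huE 2)) (huE 3)) (huE 4)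
  have hmfix : m ∈ fixE R := by
    rw [mem_fixE]
    refine ⟨hmE, ?_⟩
    obtain ⟨v, hv, hvm⟩ := R.φ_surj (QuotientGroup.mk (⟨m, hmE⟩ : E))
    refine ⟨v, ?_, hvm⟩
    let U : ℕ → Bar E := fun n => QuotientGroup.mk (⟨u n, huE n⟩ : E)
    have hU : ∀ n, d.ρ (q5 R) (U n) = U (n + 1) := fun n => by
      rw [d.ρ_mk]
      exact congrArg QuotientGroup.mk (Subtype.ext (by simp [hu, q, pow_succ', mul_assoc]))
    have hU5 : U 5 = U 0 := congrArg QuotientGroup.mk (Subtype.ext (by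
      show q ^ 5 * y * (q ^ 5)⁻¹ = q ^ 0 * y * (q ^ 0)⁻¹
      rw [show q ^ 5 = 1 from q5_pow R, pow_zero]))
    have hmU : (QuotientGroup.mk (⟨m, hmE⟩ : E) : Bar E) = U 0 * U 1 * U 2 * U 3 * U 4 := rfl
    have hfix : d.ρ (q5 R) (R.φ v) = R.φ v := by
      rw [hvm, hmU, map_mul, map_mul, map_mul, map_mul, hU, hU, hU, hU, hU, hU5,
        d.comm_bar (U 1 * U 2 * U 3 * U 4) (U 0)]
      simp only [mul_assoc]
    have h4 := beq_iff_eq.1 ((List.all_eq_true.1 fixV_ok) v (List.mem_range.2 hv))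
    rw [ρ_q5_apply] at hfix
    rw [R.φ_inj (ap_lt (n := 12) (code_q5 R ▸ R.mat_lt _ : ∀ a ∈ mC, a < 4096) v) hv hfix,
      Nat.beq_refl, eq_comm, List.contains_iff_mem] at h4
    exact h4
  have h0 := (hbil hmE).1 (hc m hmfix)
  rw [hm, d.bil_add hxE (mul_mem (mul_mem (mul_mem (huE 0) (huE 1)) (huE 2)) (huE 3)) (huE 4),
    d.bil_add hxE (mul_mem (mul_mem (huE 0) (huE 1)) (huE 2)) (huE 3),
    d.bil_add hxE (mul_mem (huE 0) (huE 1)) (huE 2), d.bil_add hxE (huE 0) (huE 1)] at h0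
  simp only [hu, hinv] at h0
  generalize Data.bil x y = b at h0 ⊢
  revert h0
  revert b
  decide

end H95.J4Five
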