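import Cfsg.Agent.H95.J4Five.Second
import Cfsg.Agent.H95.J4Five.Transport

/-!
# The global hypotheses at the element of order five
-/

set_option autoImplicit false
set_option linter.unusedSectionVars false

namespace H95.J4Five

open Subgroup Cfsg.Agent.H69.J4 H88.J4Fusion

variable {G : Type*} [Group G] [Finite G]
variable {z : G} {E P N : Subgroup G} {d : Data z E P} (R : Real d)
  {e : ↥(centralizer ({z} : Set G)) →* MulAut ↥Cfsg.Spor.M22}

theorem exists_frobenius_H [IsSimpleGroup G] (hG : ¬ IsMulCommutative G)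
    (hJ : Cfsg.IsOfJankoFourTypeWith z P) (o : Outer z E P N e) :
    ∃ h ∈ centralizer ({z} : Set G), h * (q5 R : G) * h⁻¹ = (q5 R : G) ^ 2 := by
  classical
  set V := R.V0
  obtain ⟨F, hr⟩ := exists_frame hG hJ (show Cfsg.IsElementaryAbelian 2 V from R.V0_elementary)
    R.card_V0
  obtain ⟨σ, τ, hσ, hτ, hσ5, -, hστ⟩ := H74.J4Five.exists_frobenius
  obtain ⟨n₀, rfl⟩ : σ ∈ F.act.range := by rw [hr]; exact hσ
  obtain ⟨m, rfl⟩ : τ ∈ F.act.range := by rw [hr]; exact hτ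
  haveI : Fact (Nat.Prime 5) := ⟨by norm_num⟩
  have hσp : F.act n₀ ^ 5 = 1 := hσ5 ▸ pow_orderOf_eq_one _
  have hV5 : ((n₀ : G) ^ 5) ^ 2 = 1 := by
    rw [pow_two]
    exact F.sq ((F.act_eq_one_iff (n₀ ^ 5)).1 (by rw [map_pow, hσp]))
  set kq := n₀ ^ 16 with hkq
  have hact : F.act kq = F.act n₀ := by
    rw [map_pow, show 16 = 5 * 3 + 1 from rfl, pow_succ, pow_mul, hσp, one_pow, one_mul]
  have hq5 : orderOf (kq : G) = 5 := by
    refine orderOf_eq_prime ?_ fun h => ?_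
    · rw [hkq, SubgroupClass.coe_pow, ← pow_mul, show 16 * 5 = 5 * 2 * 8 from rfl, pow_mul, pow_mul,
        hV5, one_pow]
    · rw [← hact, show kq = 1 from Subtype.ext h, map_one, orderOf_one] at hσ5
      norm_num at hσ5
  -- the group `V⟨q⟩` and its Sylow subgroups of order five
  set W : Subgroup ↥(normalizer (V : Set G)) := (zpowers (F.act kq)).comap F.act with hW
  have hqW : kq ∈ W := mem_zpowers _
  have hWle : W.index ≠ 0 := index_ne_zero_of_finite
  have hWc : Nat.card W = 5 * 2 ^ 11 := by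
    let g : ↥W →* Equiv.Perm Cfsg.GolayPt := F.act.comp W.subtype
    have hgr : g.range = zpowers (F.act kq) := by
      refine le_antisymm (by rintro _ ⟨x, rfl⟩; exact x.2) (zpowers_le.2 ⟨⟨kq, hqW⟩, rfl⟩)
    have hgk : Nat.card g.ker = 2 ^ 11 := by
      rw [← F.card_V]
      exact Nat.card_congr ⟨fun x => ⟨x.1.1, (F.act_eq_one_iff _).1 x.2⟩,
        fun v => ⟨⟨⟨v.1, le_normalizer v.2⟩, by
          show F.act _ ∈ zpowers _
          rw [(F.act_eq_one_iff ⟨v.1, le_normalizer v.2⟩).2 v.2]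
          exact one_mem _⟩, (F.act_eq_one_iff ⟨v.1, le_normalizer v.2⟩).2 v.2⟩,
        fun _ => rfl, fun _ => rfl⟩
    have h := g.ker.card_mul_index
    rw [index_ker, hgr, hgk, Nat.card_zpowers, hact, hσ5] at h
    omega
  have hmW : m * kq * m⁻¹ ∈ W := by
    show F.act (m * kq * m⁻¹) ∈ zpowers _
    rw [map_mul, map_mul, map_inv, hact, hστ]
    exact pow_mem (mem_zpowers _) 2
  let a : ↥W := ⟨m * kq * m⁻¹, hmW⟩
  let b : ↥W := ⟨kq, hqW⟩
  have ha : orderOf a = 5 := by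
    rw [← Subgroup.orderOf_coe, ← Subgroup.orderOf_coe]
    show orderOf (MulAut.conj (m : G) (kq : G)) = 5
    rw [MulEquiv.orderOf_eq, hq5]
  have hb : orderOf b = 5 := by rw [← Subgroup.orderOf_coe, ← Subgroup.orderOf_coe]; exact hq5
  have hfac : (Nat.card W).factorization 5 = 1 := by
    rw [hWc, show 5 * 2 ^ 11 = 5 ^ 1 * 2 ^ 11 from rfl, Nat.factorization_mul (by norm_num) (by norm_num),
      Nat.Prime.factorization_pow (by norm_num), Finsupp.add_apply,
      Nat.factorization_eq_zero_of_not_dvd (show ¬ 5 ∣ 2 ^ 11 by norm_num), Finsupp.single_eq_same]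
  let Pa : Sylow 5 ↥W := Sylow.ofCard (zpowers a) (by rw [Nat.card_zpowers, ha, hfac, pow_one])
  let Pb : Sylow 5 ↥W := Sylow.ofCard (zpowers b) (by rw [Nat.card_zpowers, hb, hfac, pow_one])
  obtain ⟨w, hw⟩ := MulAction.exists_smul_eq ↥W Pa Pb
  have hm : w * a * w⁻¹ ∈ zpowers b := by
    have h1 : w * a * w⁻¹ ∈ ((w • Pa : Sylow 5 ↥W) : Subgroup ↥W) := by
      rw [Sylow.coe_subgroup_smul]
      exact ⟨a, mem_zpowers a, by simp⟩
    rw [hw] at h1
    exact h1
  obtain ⟨i, hi⟩ := mem_zpowers_iff.1 hm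
  set kh : ↥(normalizer (V : Set G)) := (w : ↥(normalizer (V : Set G))) * m with hkh
  have hi' : kh * kq * kh⁻¹ = kq ^ i := by
    have h := (congrArg Subtype.val hi).symm
    change (w : ↥(normalizer (V : Set G))) * (m * kq * m⁻¹) * (w : ↥(normalizer (V : Set G)))⁻¹ = _ at h
    refine Eq.trans ?_ (h.trans (map_zpow W.subtype b i))
    rw [hkh]
    group
  have hwc : Commute (F.act (w : ↥(normalizer (V : Set G)))) (F.act kq ^ 2) := by
    obtain ⟨j, hj⟩ := mem_zpowers_iff.1 (show F.act (w : ↥(normalizer (V : Set G))) ∈ zpowers (F.act kq) from w.2)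
    rw [← hj]
    exact (Commute.zpow_self _ j).pow_right 2
  have hhq : (kh : G) * kq * (kh : G)⁻¹ = (kq : G) ^ 2 := by
    have h := congrArg F.act hi'
    rw [hkh, map_mul, map_mul, map_inv, map_mul, map_zpow] at h
    have h2 : F.act kq ^ i = F.act kq ^ (2 : ℤ) := by
      rw [← h, zpow_ofNat]
      calc F.act (w : ↥(normalizer (V : Set G))) * F.act m * F.act kq *
            (F.act (w : ↥(normalizer (V : Set G))) * F.act m)⁻¹
          = F.act (w : ↥(normalizer (V : Set G))) * (F.act m * F.act kq * (F.act m)⁻¹) *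
              (F.act (w : ↥(normalizer (V : Set G))))⁻¹ := by group
        _ = F.act kq ^ 2 := by rw [hact, hστ, ← hact, hwc.eq, mul_inv_cancel_right]
    rw [zpow_eq_zpow_iff_modEq, hact, hσ5] at h2
    have h3 : (kq : G) ^ i = (kq : G) ^ (2 : ℤ) := zpow_eq_zpow_iff_modEq.2 (by rw [hq5]; exact h2)
    rw [zpow_ofNat] at h3
    rw [← h3]
    simpa using congrArg Subtype.val hi'
  obtain ⟨-, c, hc, hcq, hcz, huniq⟩ := fixed_data R hJ o F kq.2 hq5
  have hfix : (kh : G) * c * (kh : G)⁻¹ = c := by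
    refine huniq _ ((mem_normalizer_iff.1 kh.2 c).1 hc) ?_
      (hcz.trans (isConj_iff.2 ⟨kh, rfl⟩))
    have h := conj_commute (kh : G) hcq
    rw [hhq] at h
    have e : (kq : G) = ((kq : G) ^ 2) ^ 3 := by
      rw [← pow_mul, show 2 * 3 = 5 + 1 from rfl, pow_succ, ← hq5, pow_orderOf_eq_one, one_mul]
    conv_lhs => rw [e]
    conv_rhs => rw [e]
    exact ((show Commute ((kq : G) ^ 2) _ from h).pow_left 3).eq
  obtain ⟨g, hg⟩ := isConj_iff.1 hcz
  have hqH : g⁻¹ * kq * g ∈ centralizer ({z} : Set G) := mem_centralizer_singleton_iff.2 (by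
    calc g⁻¹ * kq * g * z = g⁻¹ * ((kq : G) * (g * z * g⁻¹)) * g := by group
      _ = _ := by rw [hg, hcq, ← hg]; group)
  obtain ⟨k, hk, hz⟩ := conj_five R hJ hqH (by
    rw [show g⁻¹ * (kq : G) * g = MulAut.conj g⁻¹ kq by simp, MulEquiv.orderOf_eq, hq5])
  set t := k * g⁻¹ with ht
  have htc : t * c * t⁻¹ = z := by
    have hkz : k * z = z * k := mem_centralizer_singleton_iff.1 hk
    calc t * c * t⁻¹ = k * z * k⁻¹ := by rw [← hg, ht]; group
      _ = z := by rw [hkz, mul_inv_cancel_right]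
  refine ⟨t * kh * t⁻¹, mem_centralizer_singleton_iff.2 ?_, ?_⟩
  · conv_lhs => rw [← htc]
    conv_rhs => rw [← htc]
    exact conj_commute t (mul_inv_eq_iff_eq_mul.1 hfix)
  · rw [show k * (g⁻¹ * kq * g) * k⁻¹ = t * kq * t⁻¹ by rw [ht]; group] at hz
    obtain ⟨i, hi⟩ := mem_zpowers_iff.1 (hz ▸ mem_zpowers (q5 R : G) :
      (q5 R : G) ∈ zpowers (t * kq * t⁻¹))
    have e1 : (t * kq * t⁻¹) ^ i = MulAut.conj t ((kq : G) ^ i) := by
      rw [map_zpow, MulAut.conj_apply]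
    have e2 : (kh : G) * (kq : G) ^ i * (kh : G)⁻¹ = ((kq : G) ^ i) ^ 2 := by
      rw [← MulAut.conj_apply, map_zpow, MulAut.conj_apply, hhq, pow_two, pow_two,
        (Commute.refl (kq : G)).mul_zpow]
    rw [← hi, e1, ← map_pow, ← e2]
    simp [mul_assoc]

/-- The conjugates of `z` commuting with the element of order five are fused in its centralizer. -/
theorem exists_fus [IsSimpleGroup G] (hG : ¬ IsMulCommutative G)
    (hJ : Cfsg.IsOfJankoFourTypeWith z P) (o : Outer z E P N e) {c : G}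
    (hc : IsConj z c) (hcq : (q5 R : G) * c = c * q5 R) :
    ∃ g ∈ centralizer ((zpowers (q5 R : G) : Subgroup G) : Set G), g * z * g⁻¹ = c := by
  classical
  obtain ⟨g, rfl⟩ := isConj_iff.1 hc
  obtain ⟨h, hh, hhq⟩ := exists_frobenius_H R hG hJ o
  have hqH : g⁻¹ * q5 R * g ∈ centralizer ({z} : Set G) := mem_centralizer_singleton_iff.2 (by
    calc g⁻¹ * q5 R * g * z = g⁻¹ * ((q5 R : G) * (g * z * g⁻¹)) * g := by group
      _ = _ := by rw [hcq]; group)
  obtain ⟨k, hk, hz⟩ := conj_five R hJ hqH (by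
    rw [show g⁻¹ * (q5 R : G) * g = MulAut.conj g⁻¹ (q5 R : G) by simp, MulEquiv.orderOf_eq,
      orderOf_q5])
  set t := g * k⁻¹ with ht
  have htq : t⁻¹ * q5 R * t ∈ zpowers (q5 R : G) := by
    rw [← hz, show t⁻¹ * (q5 R : G) * t = k * (g⁻¹ * q5 R * g) * k⁻¹ by rw [ht]; group]
    exact mem_zpowers _
  rw [mem_zpowers_iff_mem_range_orderOf, orderOf_q5] at htq
  obtain ⟨i, hi, hiq⟩ := Finset.mem_image.1 htq
  have hi' := Finset.mem_range.1 hi
  have hpow : ∀ j : ℕ, h ^ j * (q5 R : G) * (h ^ j)⁻¹ = (q5 R : G) ^ 2 ^ j := by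
    intro j
    induction j with
    | zero => simp
    | succ j ih =>
      rw [pow_succ, show h ^ j * h * (q5 R : G) * (h ^ j * h)⁻¹ =
        h ^ j * (h * (q5 R : G) * h⁻¹) * (h ^ j)⁻¹ by group, hhq, pow_succ 2 j, pow_mul, ← ih,
        ← MulAut.conj_apply, map_pow, MulAut.conj_apply]
  have hmod : ∀ j : ℕ, (q5 R : G) ^ j = (q5 R : G) ^ (j % 5) := fun j => by
    rw [← pow_mod_orderOf, orderOf_q5]
  obtain ⟨j, hj⟩ : ∃ j : ℕ, 2 ^ j % 5 = i := by
    interval_cases i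
    · exfalso
      rw [pow_zero] at hiq
      refine q5_ne R ?_
      rw [show (q5 R : G) = t * (t⁻¹ * q5 R * t) * t⁻¹ by group, ← hiq]
      group
    exacts [⟨0, rfl⟩, ⟨1, rfl⟩, ⟨3, rfl⟩, ⟨2, rfl⟩]
  refine ⟨t * h ^ j, (mem_cent_iff R).2 ?_, ?_⟩
  · have e : t * h ^ j * (q5 R : G) * (t * h ^ j)⁻¹ = q5 R := by
      rw [show t * h ^ j * (q5 R : G) * (t * h ^ j)⁻¹ =
        t * (h ^ j * (q5 R : G) * (h ^ j)⁻¹) * t⁻¹ by group, hpow, hmod, hj, hiq]
      group
    exact (mul_inv_eq_iff_eq_mul.1 e).symm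
  · have h1 : h ^ j * z = z * h ^ j :=
      mem_centralizer_singleton_iff.1 (pow_mem hh j)
    have h2 : k⁻¹ * z = z * k⁻¹ := mem_centralizer_singleton_iff.1 (inv_mem hk)
    calc t * h ^ j * z * (t * h ^ j)⁻¹ = g * (k⁻¹ * z) * k * g⁻¹ := by
          rw [mul_assoc t (h ^ j) z, h1, ht]; group
      _ = g * z * g⁻¹ := by rw [h2]; group

/-- The local data at `z`. -/
theorem local_z [IsSimpleGroup G] (hG : ¬ IsMulCommutative G)
    (hJ : Cfsg.IsOfJankoFourTypeWith z P) (o : Outer z E P N e) :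
    Local z (zpowers (q5 R : G)) z := by
  have h1771 := card_zO R hG hJ
  have hcore : core (zpowers (q5 R : G)) z = fixE R :=
    congrArg (· ⊓ centralizer _) d.L.hE.symm
  have hmem : ∀ x : G, x ∈ cent (zpowers (q5 R : G)) z ↔
      ∃ hx : x ∈ centralizer ({z} : Set G), ⟨x, hx⟩ ∈ centH R := fun x =>
    ⟨fun h => ⟨h.1, (mem_centH R).2 ((mem_cent_iff R).1 h.2)⟩,
      fun ⟨hx, h⟩ => ⟨hx, (mem_cent_iff R).2 ((mem_centH R).1 h)⟩⟩
  have hzfix : z ∈ fixE R := ⟨d.L.z_mem,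
    (mem_cent_iff R).2 (mem_centralizer_singleton_iff.1 (q5 R).2)⟩
  refine ⟨?_, by rw [hcore, card_fixE], hcore ▸ hzfix, ?_, ?_, ?_, ?_, ?_, ?_⟩
  · rw [← card_centH R o H74.J4Five.card_cent_five]
    exact Nat.card_congr ⟨fun x => ⟨⟨x.1, x.2.1⟩, ((hmem _).1 x.2).choose_spec⟩,
      fun x => ⟨x.1.1, (hmem _).2 ⟨x.1.2, x.2⟩⟩, fun _ => rfl, fun _ => rfl⟩
  · intro x hx
    rw [hcore] at hx
    exact d.L.sq_cases hx.1
  · intro x hx hc
    rw [hcore] at hx hc
    exact fixE_centre R hx hc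
  · refine ⟨(innerH (e := e) R).map (centralizer ({z} : Set G)).subtype, ?_, ?_, ?_⟩
    · rintro _ ⟨x, hx, rfl⟩
      exact (hmem _).2 ⟨x.2, hx.1⟩
    · rw [Subgroup.card_map_of_injective Subtype.val_injective,
        card_innerH R o H74.J4Five.card_cent_five_inn]
    · rintro _ ⟨x, hx, rfl⟩ h2
      rw [hcore]
      exact ⟨innerH_sq R o H74.J4Five.card_cent_five_inn hx h2,
        (mem_cent_iff R).2 ((mem_centH R).1 hx.1)⟩
  · refine ⟨lineE R, card_lineE R, fun x => ?_⟩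
    rw [hcore]
    exact mem_lineE R hG o h1771
  · intro V hV hVc hzV x hx hxQ
    rw [hcore]
    exact ⟨mem_E_of_V R o H74.J4Five.card_cent_five_inn hV hVc hzV hx ((mem_cent_iff R).1 hxQ), hxQ⟩
  · intro x hx h2
    rw [hcore] at hx
    rcases eq_or_ne x 1 with rfl | hx1
    · exact ⟨R.V0, R.V0_elementary, R.card_V0, R.sHat_le_V0 R.z_mem_sHat, one_mem _⟩
    rcases eq_or_ne x z with rfl | hxz
    · exact ⟨R.V0, R.V0_elementary, R.card_V0, R.sHat_le_V0 R.z_mem_sHat,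
        R.sHat_le_V0 R.z_mem_sHat⟩
    obtain ⟨h, hh, hhx⟩ := R.exists_conj_sHat hx.1 h2 hx1 hxz
    refine ⟨R.V0.map (MulAut.conj h⁻¹).toMonoidHom, elementary_conj _ R.V0_elementary,
      by rw [card_map_conj, R.card_V0], ?_, mem_map_conj.2 (by rwa [inv_inv])⟩
    rw [mem_map_conj, inv_inv, mem_centralizer_singleton_iff.1 hh, mul_inv_cancel_right]
    exact R.sHat_le_V0 R.z_mem_sHat

/-- The global hypotheses. -/
theorem env [IsSimpleGroup G] (hG : ¬ IsMulCommutative G)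
    (hJ : Cfsg.IsOfJankoFourTypeWith z P) (o : Outer z E P N e) :
    Env z (zpowers (q5 R : G)) where
  z_sq := d.L.zz
  z_ne := d.L.z_ne_one
  z_cent := (mem_cent_iff R).2 (mem_centralizer_singleton_iff.1 (q5 R).2)
  loc c hc hcQ := by
    obtain ⟨g, hg, rfl⟩ := exists_fus R hG hJ o hc ((mem_cent_iff R).1 hcQ)
    exact (local_z R hG hJ o).conj hg
  fus c hc hcQ := exists_fus R hG hJ o hc ((mem_cent_iff R).1 hcQ)
  uniqV V W h1 h2 h3 h4 h5 := H95.J4T.eq_of_le_normalizer ⟨P, hJ⟩ h1 h2 h3 h4 h5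
  uniqZ V hV hVc hQN c hc c' hc' hcQ hc'Q hcz hc'z := by
    obtain ⟨F, -⟩ := exists_frame hG hJ hV hVc
    obtain ⟨-, c0, -, -, -, huniq⟩ :=
      fixed_data R hJ o F (hQN (mem_zpowers _)) (orderOf_q5 R)
    rw [huniq c hc ((mem_cent_iff R).1 hcQ) hcz, huniq c' hc' ((mem_cent_iff R).1 hc'Q) hc'z]
  centV V hV hVc s hs hs1 hsz := by
    obtain ⟨F, hr⟩ := exists_frame hG hJ hV hVc
    exact (exists_cent_hom hG hJ F hr hs hs1 hsz).1
  odd s x r hs hx hr hs2 hs1 hsz _ hxs hrs hodd hinv :=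
    (second_local R hG hJ o ((mem_cent_iff R).1 hs) hs2 hs1 hsz).2 x r hx hr hxs hrs hodd hinv
  other := by
    obtain ⟨t, ht, h2, h1, hz⟩ := exists_other R hG o (card_zO R hG hJ)
    exact ⟨t, by rwa [show core (zpowers (q5 R : G)) z = fixE R from
      congrArg (· ⊓ centralizer _) d.L.hE.symm], h2, h1,
      hz⟩

end H95.J4Five
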