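import Cfsg.Agent.H95.J4Five.Vq
import Cfsg.Agent.H95.J4T.Second

/-!
# Involutions of the second class centralizing the element of order five
-/

set_option autoImplicit false
set_option linter.unusedSectionVars false

namespace H95.J4Five

open Subgroup Cfsg.Agent.H69.J4 H88.J4Fusion

variable {G : Type*} [Group G] [Finite G]
variable {z : G} {E P N : Subgroup G} {d : Data z E P} (R : Real d)
  {e : ↥(centralizer ({z} : Set G)) →* MulAut ↥Cfsg.Spor.M22}

/-- The centralizer of an element of the second class maps to `Aut M22` with kernel `V`. -/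
theorem exists_cent_hom [IsSimpleGroup G] (hG : ¬ IsMulCommutative G)
    (hJ : Cfsg.IsOfJankoFourTypeWith z P) {V : Subgroup G}
    (F : H95.J4T.Frame z V Cfsg.GolayPt) (hr : F.act.range = Cfsg.M24) {s : G} (hs : s ∈ V)
    (hs1 : s ≠ 1) (hsz : ¬ IsConj z s) :
    centralizer ({s} : Set G) ≤ normalizer (V : Set G) ∧
    ∃ φ : ↥(centralizer ({s} : Set G)) →* MulAut ↥Cfsg.Spor.M22, ∀ x, φ x = 1 ↔ (x : G) ∈ V := by
  obtain ⟨a, b, hab, rfl⟩ := F.pair s hs hs1 hsz
  have hle := H95.J4T.centralizer_le (H95.J4T.setup hG ⟨P, hJ⟩ F) hab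
  refine ⟨hle, ?_⟩
  obtain ⟨σ, hσ, h1, h2⟩ :=
    H90.exists_move2 hab (show (none : Cfsg.GolayPt) ≠ some 0 by simp)
  let f : ↥(centralizer ({F.el a b} : Set G)) →* Equiv.Perm Cfsg.GolayPt :=
    (MulAut.conj σ).toMonoidHom.comp (F.act.comp (inclusion hle))
  have hf : ∀ x, f x = σ * F.act (inclusion hle x) * σ⁻¹ := fun x => rfl
  have hσa : σ.symm none = a := by rw [← h1]; simp
  have hσb : σ.symm (some 0) = b := by rw [← h2]; simp
  have hmem : ∀ x, f x ∈ H29.M22.A22 := by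
    intro x
    refine H29.M22.mem_A22.2 ⟨?_, ?_⟩
    · rw [hf]
      exact mul_mem (mul_mem hσ (hr ▸ ⟨inclusion hle x, rfl⟩)) (inv_mem hσ)
    · rcases (F.commute_el_iff (inclusion hle x) hab).1 (mem_centralizer_singleton_iff.1 x.2) with
        ⟨e1, e2⟩ | ⟨e1, e2⟩
      · exact Or.inl ⟨by simp [hf, hσa, e1, h1], by simp [hf, hσb, e2, h2]⟩
      · exact Or.inr ⟨by simp [hf, hσa, e1, h2], by simp [hf, hσb, e2, h1]⟩
  refine ⟨(H29.M22.autEquiv : ↥H29.M22.A22 →* _).comp (f.codRestrict _ hmem), fun x => ?_⟩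
  rw [MonoidHom.comp_apply, MonoidHom.coe_coe, MulEquiv.map_eq_one_iff]
  refine Iff.trans ?_ (F.act_eq_one_iff (inclusion hle x))
  refine ⟨fun h => ?_, fun h => Subtype.ext ?_⟩
  · have h' : f x = 1 := congrArg Subtype.val h
    rwa [hf, conj_eq_one_iff] at h'
  · show f x = 1
    rw [hf, conj_eq_one_iff]
    exact h

/-- The centralizer in `C(q)` of an involution of the second class. -/
theorem second_local [IsSimpleGroup G] (hG : ¬ IsMulCommutative G)
    (hJ : Cfsg.IsOfJankoFourTypeWith z P) (o : Outer z E P N e) {s : G}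
    (hsq : (q5 R : G) * s = s * q5 R) (hs2 : s * s = 1) (hs1 : s ≠ 1) (hsz : ¬ IsConj z s) :
    Nat.card ↥(centralizer ({s} : Set G) ⊓
        centralizer ((zpowers (q5 R : G) : Subgroup G) : Set G)) ∣ 80 ∧
    ∀ x r : G, x ∈ centralizer ((zpowers (q5 R : G) : Subgroup G) : Set G) →
      r ∈ centralizer ((zpowers (q5 R : G) : Subgroup G) : Set G) →
      Commute x s → Commute r s → Odd (orderOf r) → x * r * x⁻¹ = r⁻¹ → r = 1 := by
  classical
  haveI : Fact (Nat.Prime 5) := ⟨by norm_num⟩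
  haveI : Fact (Nat.Prime 2) := ⟨Nat.prime_two⟩
  haveI : Finite (MulAut ↥Cfsg.Spor.M22) := Finite.of_surjective e o.surj
  obtain ⟨V, hV, hVc, hsV⟩ := H95.J4T.exists_mem_elementary hG ⟨P, hJ⟩ (t := s)
    (orderOf_eq_prime (by rw [pow_two, hs2]) hs1)
  obtain ⟨F, hr⟩ := exists_frame hG hJ hV hVc
  obtain ⟨hle, φ, hφ⟩ := exists_cent_hom hG hJ F hr hsV hs1 hsz
  have hqs : (q5 R : G) ∈ centralizer ({s} : Set G) := mem_centralizer_singleton_iff.2 hsq
  obtain ⟨h8, -⟩ := fixed_data R hJ o F (hle hqs) (orderOf_q5 R)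
  set σ := φ ⟨q5 R, hqs⟩ with hσ
  have hσ5 : orderOf σ = 5 := by
    refine orderOf_eq_prime ?_ fun h => ?_
    · rw [hσ, ← map_pow, show (⟨q5 R, hqs⟩ : ↥(centralizer ({s} : Set G))) ^ 5 = 1 from
        Subtype.ext (q5_pow R), map_one]
    · have h2 : (q5 R : G) * q5 R = 1 := F.sq ((hφ _).1 h)
      have := orderOf_dvd_of_pow_eq_one (x := (q5 R : G)) (n := 2) (by rw [pow_two]; exact h2)
      rw [orderOf_q5 R] at this
      norm_num at this
  have hK := H74.J4Five.card_cent_five σ hσ5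
  set K := centralizer ({σ} : Set (MulAut ↥Cfsg.Spor.M22)) with hKdef
  set D := centralizer ({s} : Set G) ⊓ centralizer ((zpowers (q5 R : G) : Subgroup G) : Set G)
  let ψ : ↥D →* MulAut ↥Cfsg.Spor.M22 := φ.comp (inclusion inf_le_left)
  have hψ : ∀ x : ↥D, ψ x ∈ K := fun x => by
    refine mem_centralizer_singleton_iff.2 ?_
    show φ _ * φ _ = φ _ * φ _
    rw [← map_mul, ← map_mul]
    exact congrArg φ (Subtype.ext ((mem_cent_iff R).1 x.2.2).symm)
  refine ⟨?_, fun x r hx hr' hxs hrs hodd hinv => ?_⟩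
  · have hker : Nat.card ψ.ker = 8 := by
      rw [← h8, ← Nat.card_coe_set_eq]
      refine Nat.card_congr ⟨fun x => ⟨x.1.1, (hφ _).1 x.2, (mem_cent_iff R).1 x.1.2.2⟩,
        fun y => ⟨⟨y.1, mem_centralizer_singleton_iff.2 (F.comm y.2.1 hsV),
          (mem_cent_iff R).2 y.2.2⟩, (hφ _).2 y.2.1⟩, fun _ => rfl, fun _ => rfl⟩
    have hrange : Nat.card ψ.range ∣ 10 := hK ▸ Subgroup.card_dvd_of_le (by
      rintro _ ⟨x, rfl⟩
      exact hψ x)
    have := ψ.ker.card_mul_index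
    rw [index_ker, hker] at this
    rw [← this]
    exact Nat.mul_dvd_mul_left 8 hrange
  let x' : ↥D := ⟨x, mem_centralizer_singleton_iff.2 hxs, hx⟩
  let r' : ↥D := ⟨r, mem_centralizer_singleton_iff.2 hrs, hr'⟩
  let S : Subgroup ↥K := zpowers (⟨σ, mem_centralizer_singleton_iff.2 rfl⟩ : ↥K)
  have hS : S.index = 2 := by
    have h := S.card_mul_index
    rw [Nat.card_zpowers, ← Subgroup.orderOf_coe, hK] at h
    dsimp only at h
    rw [hσ5] at h
    omega
  set u : ↥K := ⟨ψ r', hψ r'⟩ with hu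
  have huo : orderOf u ∣ orderOf r := by
    rw [← Subgroup.orderOf_coe, hu]
    exact (orderOf_map_dvd ψ r').trans (by rw [← Subgroup.orderOf_coe])
  have hcop : Nat.Coprime 2 (orderOf u) :=
    (Nat.coprime_two_left).2 (hodd.of_dvd_nat huo)
  have huS : u ∈ S := by
    obtain ⟨m, hm⟩ := exists_pow_eq_self_of_coprime hcop
    rw [← hm]
    exact pow_mem (sq_mem_of_index_two hS u) m
  obtain ⟨i, hi⟩ := mem_zpowers_iff.1 huS
  have hcomm : ψ x' * ψ r' = ψ r' * ψ x' := by
    have h : ψ r' = σ ^ i := by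
      have := congrArg Subtype.val hi
      simpa [hu] using this.symm
    rw [h]
    exact ((show Commute (ψ x') σ from mem_centralizer_singleton_iff.1 (hψ x')).zpow_right i).eq
  have hψinv : ψ r' = (ψ r')⁻¹ := by
    conv_lhs => rw [← mul_inv_cancel_right (ψ r') (ψ x'), ← hcomm]
    rw [← map_inv, ← map_mul, ← map_mul, ← map_inv]
    exact congrArg ψ (Subtype.ext hinv)
  have hψ1 : ψ r' = 1 := by
    have h2 : u ^ 2 = 1 := Subtype.ext (by
      show ψ r' ^ 2 = 1
      rw [pow_two]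
      conv_lhs => arg 1; rw [hψinv]
      exact inv_mul_cancel _)
    have h1 : u = 1 := orderOf_eq_one_iff.1
      (Nat.eq_one_of_dvd_coprimes hcop.symm (dvd_refl _) (orderOf_dvd_of_pow_eq_one h2))
    exact congrArg Subtype.val h1
  have hrV : r ∈ V := (hφ _).1 hψ1
  refine orderOf_eq_one_iff.1 ?_
  have h2 := orderOf_dvd_of_pow_eq_one (show r ^ 2 = 1 by rw [pow_two]; exact F.sq hrV)
  rcases (Nat.dvd_prime Nat.prime_two).1 h2 with h | h
  · exact h
  · rw [h] at hodd
    exact absurd hodd (by decide)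

end H95.J4Five
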